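import Cfsg.Agent.H71.CovScal

/-!
# Full centralizers (helper71, task 746 for S2483)
-/

set_option autoImplicit false

namespace Cfsg.Agent.H71.CovFull

open Module Polynomial Cfsg.Agent.H166.Cov Cfsg.Agent.H71.CovScal

universe u

variable {F : Type u} [Field F] {V W U : Type u} [AddCommGroup V] [Module F V]
  [AddCommGroup W] [Module F W] [AddCommGroup U] [Module F U]

theorem det_conj_equiv (e : V ≃ₗ[F] W) (f : V ≃ₗ[F] V) :
    LinearMap.det (((e.symm.trans f).trans e : W ≃ₗ[F] W) : W →ₗ[F] W) = LinearMap.det (f : V →ₗ[F] V) := by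
  rw [← LinearMap.det_conj (f : V →ₗ[F] V) e]
  rfl

theorem Full.sim {S : End F V} {T : End F W} (h : Sim S T) (hS : Full S) : Full T := by
  obtain ⟨e, he⟩ := h
  intro c hc
  obtain ⟨f, hf, hfS⟩ := hS c hc
  refine ⟨(e.symm.trans f).trans e, by rw [det_conj_equiv, hf], fun x => ?_⟩
  have h1 : e.symm (T x) = S (e.symm x) := by
    apply e.injective
    rw [e.apply_symm_apply, he, e.apply_symm_apply]
  show e (f (e.symm (T x))) = T (e (f (e.symm x)))
  rw [h1, hfS, he]

theorem det_prodCongr [FiniteDimensional F U] [FiniteDimensional F W] (e : U ≃ₗ[F] U) (f : W ≃ₗ[F] W) :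
    LinearMap.det ((e.prodCongr f : (U × W) ≃ₗ[F] (U × W)) : U × W →ₗ[F] U × W) =
      LinearMap.det (e : U →ₗ[F] U) * LinearMap.det (f : W →ₗ[F] W) := by
  rw [← LinearMap.det_prodMap]
  rfl

theorem Full.prodMap_left [FiniteDimensional F U] [FiniteDimensional F W] {P : End F U} (T : End F W) (h : Full P) :
    Full (P.prodMap T) := by
  intro c hc
  obtain ⟨e, he, hP⟩ := h c hc
  refine ⟨e.prodCongr (LinearEquiv.refl F W), ?_, fun x => ?_⟩
  · rw [det_prodCongr, he]
    have : LinearMap.det ((LinearEquiv.refl F W : W ≃ₗ[F] W) : W →ₗ[F] W) = 1 := LinearMap.det_id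
    rw [this, mul_one]
  · ext
    · exact hP x.1
    · rfl

theorem det_smulOfNeZero [FiniteDimensional F V] {c : F} (hc : c ≠ 0) :
    LinearMap.det ((LinearEquiv.smulOfNeZero F V c hc : V ≃ₗ[F] V) : V →ₗ[F] V) = c ^ finrank F V := by
  have h : ((LinearEquiv.smulOfNeZero F V c hc : V ≃ₗ[F] V) : V →ₗ[F] V) = c • LinearMap.id := by
    ext x; rfl
  rw [h, LinearMap.det_smul, LinearMap.det_id, mul_one]

theorem Full.of_coprime_finrank [FiniteDimensional F U] [FiniteDimensional F W] (P : End F U) (T : End F W)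
    (h : (finrank F U).Coprime (finrank F W)) : Full (P.prodMap T) := by
  intro c hc
  set m := finrank F U
  set n := finrank F W
  have h1 : (m : ℤ) * Nat.gcdA m n + n * Nat.gcdB m n = 1 := by
    rw [← Nat.gcd_eq_gcd_ab, h]; rfl
  have ha : c ^ (Nat.gcdA m n) ≠ 0 := zpow_ne_zero _ hc
  have hb : c ^ (Nat.gcdB m n) ≠ 0 := zpow_ne_zero _ hc
  refine ⟨(LinearEquiv.smulOfNeZero F U _ ha).prodCongr (LinearEquiv.smulOfNeZero F W _ hb), ?_, fun x => ?_⟩
  · rw [det_prodCongr, det_smulOfNeZero, det_smulOfNeZero, ← zpow_natCast, ← zpow_natCast, ← zpow_mul, ← zpow_mul,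
      ← zpow_add₀ hc]
    have : Nat.gcdA m n * ((finrank F U : ℕ) : ℤ) + Nat.gcdB m n * ((finrank F W : ℕ) : ℤ) = 1 := by
      rw [← h1]; ring
    rw [this, zpow_one]
  · ext
    · exact (map_smul P (c ^ Nat.gcdA m n) x.1).symm
    · exact (map_smul T (c ^ Nat.gcdB m n) x.2).symm

theorem Full.hps {T g : End F V} {k : ℕ} (hT : Full T) (h : HP T k g) : HPS T k g := by
  obtain ⟨L, h1, h2, h3⟩ := h
  refine ⟨L, h1, fun A hA => ?_, h3⟩
  obtain ⟨e, he⟩ := h2 A hA
  have hd : LinearMap.det (e : V →ₗ[F] V) ≠ 0 := (LinearEquiv.isUnit_det' e).ne_zero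
  obtain ⟨f, hf, hfT⟩ := hT (LinearMap.det (e : V →ₗ[F] V))⁻¹ (inv_ne_zero hd)
  refine ⟨f.trans e, ?_, fun x => ?_⟩
  · have h4 : ((f.trans e : V ≃ₗ[F] V) : V →ₗ[F] V) = (e : V →ₗ[F] V) * (f : V →ₗ[F] V) := rfl
    rw [h4, map_mul, hf, mul_inv_cancel₀ hd]
  · show e (f (T x)) = A (e (f x))
    rw [hfT, he]

/-! ### irreducible characteristic polynomial -/

theorem det_act [Finite F] [FiniteDimensional F V] {T : End F V} (hirr : Irreducible (LinearMap.charpoly T))
    (k : AdjoinRoot (LinearMap.charpoly T)) :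
    LinearMap.det (act (LinearMap.aeval_self_charpoly T) k) = Algebra.norm F k := by
  have hf : Fact (Irreducible (LinearMap.charpoly T)) := ⟨hirr⟩
  have hT : aeval T (LinearMap.charpoly T) = 0 := LinearMap.aeval_self_charpoly T
  let m1 : Module (AdjoinRoot (LinearMap.charpoly T)) V := Module.compHom V (act hT).toRingHom
  have s1 : ∀ (k : AdjoinRoot (LinearMap.charpoly T)) (v : V), k • v = act hT k v := fun _ _ => rfl
  have t1 : IsScalarTower F (AdjoinRoot (LinearMap.charpoly T)) V := ⟨fun c k v => by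
    rw [s1, s1, map_smul, LinearMap.smul_apply]⟩
  have f1 : FiniteDimensional (AdjoinRoot (LinearMap.charpoly T)) V :=
    FiniteDimensional.right F (AdjoinRoot (LinearMap.charpoly T)) V
  have f0 : FiniteDimensional F (AdjoinRoot (LinearMap.charpoly T)) := (AdjoinRoot.powerBasis hirr.ne_zero).finite
  have h1 := Module.finrank_mul_finrank F (AdjoinRoot (LinearMap.charpoly T)) V
  have h2 : finrank F (AdjoinRoot (LinearMap.charpoly T)) = finrank F V := by
    rw [finrank_adjoinRoot hirr.ne_zero, LinearMap.charpoly_natDegree]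
  have h4 : 0 < finrank F (AdjoinRoot (LinearMap.charpoly T)) := Module.finrank_pos
  have h3 : finrank (AdjoinRoot (LinearMap.charpoly T)) V = 1 := by
    apply Nat.eq_of_mul_eq_mul_left h4
    rw [h1, h2, mul_one]
  obtain ⟨e⟩ := FiniteDimensional.nonempty_linearEquiv_of_finrank_eq
    (R := AdjoinRoot (LinearMap.charpoly T)) (M := AdjoinRoot (LinearMap.charpoly T)) (M' := V)
    (by rw [Module.finrank_self, h3])
  rw [Algebra.norm_apply, ← LinearMap.det_conj (Algebra.lmul F _ k) (e.restrictScalars F)]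
  congr 1
  ext x
  show act hT k x = e (k * e.symm x)
  rw [← smul_eq_mul, map_smul, e.apply_symm_apply, s1]

theorem Full.of_irreducible [Finite F] [FiniteDimensional F V] {T : End F V}
    (h : Irreducible (LinearMap.charpoly T)) : Full T := by
  intro c hc
  have hf : Fact (Irreducible (LinearMap.charpoly T)) := ⟨h⟩
  have hT : aeval T (LinearMap.charpoly T) = 0 := LinearMap.aeval_self_charpoly T
  have f0 : FiniteDimensional F (AdjoinRoot (LinearMap.charpoly T)) := (AdjoinRoot.powerBasis h.ne_zero).finite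
  have f1 : Finite (AdjoinRoot (LinearMap.charpoly T)) := Module.finite_of_finite F
  obtain ⟨k, hk⟩ := FiniteField.norm_surjective F (AdjoinRoot (LinearMap.charpoly T)) c
  have hk0 : k ≠ 0 := by
    rintro rfl
    rw [Algebra.norm_zero] at hk
    exact hc hk.symm
  refine ⟨LinearEquiv.ofLinearMap (act hT k) (act hT k⁻¹) ?_ ?_, ?_, fun x => ?_⟩
  · rw [← Module.End.mul_eq_comp, ← map_mul, mul_inv_cancel₀ hk0, map_one]; rfl
  · rw [← Module.End.mul_eq_comp, ← map_mul, inv_mul_cancel₀ hk0, map_one]; rfl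
  · rw [← hk, ← det_act h k]
    rfl
  · show act hT k (T x) = T (act hT k x)
    have h1 : act hT k * act hT (AdjoinRoot.root _) = act hT (AdjoinRoot.root _) * act hT k := by
      rw [← map_mul, mul_comm, map_mul]
    have h2 := LinearMap.congr_fun h1 x
    rw [Module.End.mul_apply, Module.End.mul_apply, LinearMap.congr_fun (act_root hT) x] at h2
    rw [h2]
    exact LinearMap.congr_fun (act_root hT) _

/-! ### nice endomorphisms -/

theorem Full.of_line [FiniteDimensional F V] (h : finrank F V = 1) (T : End F V) : Full T := by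
  intro c hc
  refine ⟨LinearEquiv.smulOfNeZero F V c hc, by rw [det_smulOfNeZero, h, pow_one], fun x => ?_⟩
  exact (map_smul T c x).symm

theorem Full.of_nice [FiniteDimensional F V] {ν : F} {T : End F V} (h : Nice ν T) : Full T := by
  obtain ⟨-, p, hp, hν⟩ := h
  have hp0 : p ≠ 0 := by rintro rfl; simp at hν
  have hroot : (LinearMap.charpoly T).rootMultiplicity ν = 1 := by
    rw [hp, rootMultiplicity_mul (mul_ne_zero (X_sub_C_ne_zero ν) hp0), rootMultiplicity_X_sub_C_self,
      rootMultiplicity_eq_zero hν]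
  have h1 : finrank F ↥(Module.End.eigenspace T ν) = 1 := by
    apply le_antisymm
    · exact (LinearMap.finrank_eigenspace_le T ν).trans_eq hroot
    · rw [Nat.one_le_iff_ne_zero, Ne, Submodule.finrank_eq_zero]
      have h2 : T.HasEigenvalue ν := by
        rw [Module.End.hasEigenvalue_iff_isRoot_charpoly, hp, IsRoot.def, eval_mul, eval_sub, eval_X, eval_C, sub_self,
          zero_mul]
      exact h2
  have hcop : IsCoprime (X - C ν) p := by
    rw [(irreducible_X_sub_C ν).coprime_iff_not_dvd, dvd_iff_isRoot]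
    exact hν
  have hker : LinearMap.ker (aeval T (X - C ν)) = Module.End.eigenspace T ν := by
    rw [Module.End.eigenspace_def, map_sub, aeval_X, aeval_C, Algebra.algebraMap_eq_smul_one]
  have hd := disjoint_ker_aeval_of_isCoprime T hcop
  have hs := sup_ker_aeval_eq_ker_aeval_mul_of_coprime T hcop
  rw [← hp, LinearMap.aeval_self_charpoly, LinearMap.ker_zero] at hs
  rw [hker] at hd hs
  have hc : IsCompl (Module.End.eigenspace T ν) (LinearMap.ker (aeval T p)) := ⟨hd, codisjoint_iff.2 hs⟩
  have hA : ∀ x ∈ Module.End.eigenspace T ν, T x ∈ Module.End.eigenspace T ν := by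
    intro x hx
    rw [Module.End.mem_eigenspace_iff.1 hx]
    exact Submodule.smul_mem _ _ hx
  have hB : ∀ x ∈ LinearMap.ker (aeval T p), T x ∈ LinearMap.ker (aeval T p) := by
    intro x hx
    rw [LinearMap.mem_ker] at hx ⊢
    have h2 : aeval T p * T = T * aeval T p := by
      have h3 : aeval T (p * X) = aeval T (X * p) := by rw [mul_comm]
      rwa [map_mul, map_mul, aeval_X] at h3
    rw [← Module.End.mul_apply, h2, Module.End.mul_apply, hx, map_zero]
  have h3 : Sim ((T.restrict hA).prodMap (T.restrict hB)) T := by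
    refine ⟨Submodule.prodEquivOfIsCompl _ _ hc, fun x => ?_⟩
    simp [Submodule.coe_prodEquivOfIsCompl']
  exact Full.sim h3 (Full.prodMap_left _ (Full.of_line h1 _))

end Cfsg.Agent.H71.CovFull
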