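import Cfsg.Agent.H255.RankTools
import Cfsg.Agent.FixBN.RankOneRee
import Cfsg.Agent.LieRecognition.ReeSplit

/-!
# Small Ree groups: the rank one data `RO` and the property `ZP`

(For S2967, task T1 of helper255.)
-/

set_option autoImplicit false

namespace Cfsg.Agent.H71.RoRee

open Cfsg.Agent.H255 Cfsg.Agent.H255.RankOne Cfsg.Agent.H255.RankTools
open Cfsg.Agent.LieRecognition.ReeAbs Cfsg.Agent.LieRecognition.ReeSylowThree Cfsg.Agent.LieRecognition.ReeSplit
open Cfsg.Agent.FixBN.RankOneRee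

variable {K : Type*} [Field K] {G : Type*} [Group G] {m : ℕ} {U : K → K → K → G} {h : Kˣ → G} {n : G}

/-- the elements `U 0 u v` -/
def vSub (D : Data m U h n) : Subgroup G where
  carrier := {x | ∃ u v, x = U 0 u v}
  one_mem' := ⟨0, 0, D.U_zero.symm⟩
  mul_mem' := by
    rintro _ _ ⟨u, v, rfl⟩ ⟨u', v', rfl⟩
    exact ⟨_, _, by rw [D.U_mul, add_zero]⟩
  inv_mem' := by
    rintro _ ⟨u, v, rfl⟩
    obtain ⟨t', u', v', ht⟩ := U_inv D 0 u v
    have h1 : U 0 u v * U t' u' v' = U 0 0 0 := by rw [← ht, mul_inv_cancel, D.U_zero]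
    rw [D.U_mul] at h1
    have h2 := (U_injective D h1).1
    rw [zero_add] at h2
    exact ⟨u', v', by rw [ht, h2]⟩

theorem mem_vSub (D : Data m U h n) (t u v : K) : U t u v ∈ vSub D ↔ t = 0 := by
  constructor
  · rintro ⟨u', v', hx⟩
    exact (U_injective D hx).1
  · rintro rfl
    exact ⟨u, v, rfl⟩

theorem vSub_le (D : Data m U h n) : vSub D ≤ uSub D := by
  rintro _ ⟨u, v, rfl⟩
  exact ⟨0, u, v, rfl⟩

/-- the inverse has the opposite first coordinate -/
theorem inv_coord (D : Data m U h n) (t u v : K) : ∃ u' v', (U t u v)⁻¹ = U (-t) u' v' := by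
  obtain ⟨t', u', v', ht⟩ := U_inv D t u v
  have h1 : U t u v * U t' u' v' = U 0 0 0 := by rw [← ht, mul_inv_cancel, D.U_zero]
  rw [D.U_mul] at h1
  have h2 := (U_injective D h1).1
  exact ⟨u', v', by rw [ht, eq_neg_of_add_eq_zero_right h2]⟩

theorem inv_mul_mem (D : Data m U h n) {t u v t' u' v' : K} :
    (U t u v)⁻¹ * U t' u' v' ∈ vSub D ↔ t = t' := by
  obtain ⟨a, b, hab⟩ := inv_coord D t u v
  rw [hab, D.U_mul, mem_vSub, neg_add_eq_zero]

theorem inter (D : Data m U h n) {s : G} (hs : s ∈ uSub D) (hs' : n⁻¹ * s * n ∈ bSub D) : s = 1 := by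
  obtain ⟨t, u, v, rfl⟩ := hs
  obtain ⟨t', u', v', a, hb⟩ := hs'
  obtain ⟨x, y, z, hxyz⟩ : ∃ x y z, U t' u' v' * h a = h a * U x y z := by
    obtain ⟨x, y, z, hx⟩ := h_conj_mem D a⁻¹ (x := U t' u' v') ⟨_, _, _, rfl⟩
    refine ⟨x, y, z, ?_⟩
    rw [← hx, D.h_inv]
    group
  have h1 : U t u v * n = n * (U t' u' v' * h a) := by rw [← hb]; group
  have h2 : U t u v * h 1 * n * U 0 0 0 = U 0 0 0 * h a⁻¹ * n * U x y z := by
    rw [D.h_one, D.U_zero, mul_one, mul_one, one_mul, h1, hxyz, ← mul_assoc, D.n_h]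
  obtain ⟨h3, h4, h5, -⟩ := D.inj₂ _ _ _ _ _ _ _ _ _ _ _ _ _ _ h2
  rw [h3, h4, h5, D.U_zero]

theorem data (D : Data m U h n) : Cfsg.Agent.LieRecognition.RankOneAbstract.Data (bSub D) (uSub D) n where
  w_not_mem := by
    rintro ⟨t, u, v, a, hn⟩
    refine D.ne t u v a 0 0 0 1 0 0 0 ?_
    rw [← hn, D.U_zero, D.h_one, one_mul, one_mul, mul_one]
  le := uSub_le_bSub D
  norm g hg s hs := conj_mem_uSub D hg hs
  bruhat g hg := by
    rcases D.bruhat g with ⟨t, u, v, a, rfl⟩ | ⟨t, u, v, a, t', u', v', rfl⟩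
    · exact absurd ⟨t, u, v, a, rfl⟩ hg
    · refine ⟨U t u v, ⟨t, u, v, rfl⟩, ?_⟩
      have h1 : (U t u v * n)⁻¹ * (U t u v * h a * n * U t' u' v') = (n⁻¹ * h a * n) * U t' u' v' := by group
      rw [h1, D.n_inv, D.n_h, mul_assoc _ n n, D.n_n, mul_one]
      exact mul_mem (h_mem_bSub D _) (uSub_le_bSub D ⟨_, _, _, rfl⟩)
  inter s hs hs' := inter D hs hs'

theorem conj_h (D : Data m U h n) (a : Kˣ) : n⁻¹ * h a * n = h a⁻¹ := by
  rw [D.n_inv, D.n_h, mul_assoc, D.n_n, mul_one]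

theorem torus (D : Data m U h n) {s : G} (hs : s ∈ bSub D) (hs' : n⁻¹ * s * n ∈ bSub D) : ∃ a, s = h a := by
  obtain ⟨t, u, v, a, rfl⟩ := hs
  have h1 : n⁻¹ * U t u v * n ∈ bSub D := by
    have h2 : n⁻¹ * U t u v * n = (n⁻¹ * (U t u v * h a) * n) * (n⁻¹ * h a * n)⁻¹ := by group
    rw [h2]
    refine mul_mem hs' (inv_mem ?_)
    rw [conj_h D]
    exact h_mem_bSub D _
  refine ⟨a, ?_⟩
  rw [inter D ⟨t, u, v, rfl⟩ h1, one_mul]

theorem h_two (D : Data m U h n) (a : Kˣ) : n⁻¹ * h a * n ∈ bSub D := by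
  rw [conj_h D]
  exact h_mem_bSub D _

theorem h_conj (D : Data m U h n) (a : Kˣ) (t u v : K) : h a * U t u v * (h a)⁻¹ =
    U ((a : K) ^ (3 ^ (m + 1)) * t) ((a : K) ^ (3 ^ (m + 1) + 3) * u) ((a : K) ^ (2 * 3 ^ (m + 1) + 3) * v) := by
  rw [D.h_U, mul_inv_cancel_right]

theorem exists_scale [Fintype K] (hK : Fintype.card K = 3 ^ (2 * m + 1)) {c : K} (hc : c ≠ 0) :
    ∃ a : Kˣ, (a : K) ^ (3 ^ (m + 1)) = c := by
  have hchar := charP_three hK
  have h3 : Fact (Nat.Prime 3) := ⟨Nat.prime_three⟩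
  obtain ⟨x, hx⟩ := (Finite.injective_iff_surjective.1 (iterateFrobenius K 3 (m + 1)).injective) c
  rw [iterateFrobenius_def] at hx
  have hx0 : x ≠ 0 := by
    rintro rfl
    exact hc (by rw [← hx, zero_pow' m])
  exact ⟨Units.mk0 x hx0, hx⟩

/-- the map `x ↦ x ^ (2 + P)` is onto -/
theorem pow_surj [Fintype K] (hK : Fintype.card K = 3 ^ (2 * m + 1)) (c : K) :
    ∃ x : K, x ^ 2 * x ^ 3 ^ (m + 1) = c := by
  classical
  by_cases hc : c = 0
  · exact ⟨0, by rw [hc]; simp⟩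
  have hinj : Function.Injective (MonoidHom.mk' (fun k : Kˣ => k ^ 2 * k ^ 3 ^ (m + 1)) (fun k l => by
      rw [mul_pow, mul_pow]
      exact mul_mul_mul_comm _ _ _ _)) := by
    rw [injective_iff_map_eq_one]
    intro k hk
    have h1 : k ^ 2 * k ^ 3 ^ (m + 1) = 1 := hk
    have h2 : k ^ (3 ^ (m + 1)) = (k ^ 2)⁻¹ := eq_inv_of_mul_eq_one_right h1
    have h3 : (k ^ (3 ^ (m + 1))) ^ (3 ^ (m + 1)) = k ^ 3 := by
      rw [← pow_mul, ← pow_add, show m + 1 + (m + 1) = 2 * m + 1 + 1 by ring, pow_succ, pow_mul]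
      congr 1
      apply Units.ext
      rw [Units.val_pow_eq_pow_val, ← hK, FiniteField.pow_card]
    rw [h2, inv_pow, ← pow_mul, mul_comm 2, pow_mul, h2, inv_pow, inv_inv] at h3
    -- `k ^ 4 = k ^ 3`
    have h4 : k ^ 3 * k = k ^ 3 * 1 := by
      rw [mul_one]
      calc k ^ 3 * k = (k ^ 2) ^ 2 := by rw [← pow_succ, ← pow_mul]
        _ = k ^ 3 := h3
    exact mul_left_cancel h4
  obtain ⟨k, hk⟩ := Finite.injective_iff_surjective.1 hinj (Units.mk0 c hc)
  refine ⟨k, ?_⟩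
  have := congrArg (fun x : Kˣ => (x : K)) hk
  simpa using this

theorem ro [Fintype K] [Finite G] (hm : 1 ≤ m) (hK : Fintype.card K = 3 ^ (2 * m + 1)) (D : Data m U h n) :
    RO 3 (bSub D) (uSub D) (vSub D) n where
  data := data D
  pr := Nat.prime_three
  syl := by
    refine exists_syl (data D) Nat.prime_three ?_ ?_ ?_
    · refine IsPGroup.of_card (n := (2 * m + 1) * 3) ?_
      rw [card_uSub, hK, pow_mul]
    · intro hb
      have h1 : Nat.card (uSub D) = 1 := by rw [hb]; exact Subgroup.card_bot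
      rw [card_uSub] at h1
      have h2 : 1 < Fintype.card K := Fintype.one_lt_card
      have h3 := Nat.one_lt_pow (n := 3) (by norm_num) h2
      omega
    · have h1 : Nat.card (two (bSub D) n) = Nat.card (hSub D) := by
        congr 1
        have : two (bSub D) n = hSub D := by
          ext g
          rw [mem_two, mem_hSub]
          constructor
          · rintro ⟨h1, h2⟩
            exact torus D h1 h2
          · rintro ⟨a, rfl⟩
            exact ⟨h_mem_bSub D a, h_two D a⟩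
        rw [this]
      rw [h1, card_hSub, hK]
      have h2 : 1 ≤ 3 ^ (2 * m + 1) := Nat.one_le_pow _ _ (by norm_num)
      have h3 : 3 ∣ 3 ^ (2 * m + 1) := dvd_pow_self 3 (by omega)
      omega
  ab s hs t ht hs' ht' := by
    obtain ⟨a, rfl⟩ := torus D hs hs'
    obtain ⟨b, rfl⟩ := torus D ht ht'
    exact D.h_comm a b
  le := vSub_le D
  char α hα v hv := by
    obtain ⟨u, v, rfl⟩ := hv
    obtain ⟨t', u', v', hx⟩ := hα _ (vSub_le D ⟨u, v, rfl⟩)
    rw [hx, mem_vSub, ← cube_eq_one hK D t' u' v', ← hx, ← map_mul, ← map_mul, (cube_eq_one hK D 0 u v).2 rfl,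
      map_one]
  quot x hx y hy := by
    obtain ⟨t, u, v, rfl⟩ := hx
    obtain ⟨t', u', v', rfl⟩ := hy
    obtain ⟨a, b, h1⟩ := inv_coord D t u v
    obtain ⟨c, d, h2⟩ := inv_coord D t' u' v'
    rw [h1, h2, D.U_mul, D.U_mul, D.U_mul, mem_vSub]
    ring
  irr := irr_of_trans fun x hx hxV y hy hyV => by
    obtain ⟨t, u, v, rfl⟩ := hx
    obtain ⟨t', u', v', rfl⟩ := hy
    rw [mem_vSub] at hxV hyV
    obtain ⟨a, ha⟩ := exists_scale hK (c := t' / t) (div_ne_zero hyV hxV)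
    refine ⟨h a, h_mem_bSub D a, h_two D a, ?_⟩
    rw [h_conj D, inv_mul_mem, ha, div_mul_cancel₀ _ hxV]
  fr X hX hcov := by
    have hchar := charP_three hK
    have h3 : Fact (Nat.Prime 3) := ⟨Nat.prime_three⟩
    refine le_antisymm hX ?_
    have hlift : ∀ t, ∃ u v, U t u v ∈ X := by
      intro t
      obtain ⟨x, hx, hxV⟩ := hcov (U t 0 0) ⟨_, _, _, rfl⟩
      obtain ⟨t', u', v', rfl⟩ := hX hx
      rw [inv_mul_mem] at hxV
      exact ⟨u', v', by rw [← hxV]; exact hx⟩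
    -- the centre
    have hZ : ∀ v, U 0 0 v ∈ X := by
      intro v
      obtain ⟨t, ht⟩ := pow_surj hK (-v)
      obtain ⟨a, b, hab⟩ := hlift t
      have h1 := mul_mem (mul_mem hab hab) hab
      rw [cube hK D, ht, neg_neg] at h1
      exact h1
    -- second layer
    let A : AddSubgroup K :=
      { carrier := {u | ∀ v, U 0 u v ∈ X}
        zero_mem' := hZ
        add_mem' := by
          intro a b ha hb v
          have h1 := mul_mem (ha 0) (hb v)
          rw [D.U_mul] at h1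
          simpa [zero_pow' m] using h1
        neg_mem' := by
          intro a ha v
          have h1 := mul_mem (inv_mem (ha (-v))) (hZ 0)
          obtain ⟨t', u', v', ht⟩ := U_inv D 0 a (-v)
          have h2 : U 0 a (-v) * U t' u' v' = U 0 0 0 := by rw [← ht, mul_inv_cancel, D.U_zero]
          rw [D.U_mul] at h2
          obtain ⟨e1, e2, e3⟩ := U_injective D h2
          rw [zero_add] at e1
          subst e1
          rw [zero_pow' m] at e2 e3
          have e2' : u' = -a := by linear_combination e2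
          have e3' : v' = v := by linear_combination e3
          rw [ht, e2', e3', D.U_zero, mul_one] at h1
          exact h1 }
    have hcomm : ∀ t t' : K, t' * t ^ 3 ^ (m + 1) - t * t' ^ 3 ^ (m + 1) ∈ A := by
      intro t t' v
      obtain ⟨a, b, hab⟩ := hlift t
      obtain ⟨c, d, hcd⟩ := hlift t'
      -- `x y = (y x) z`
      have hz : ∃ w, U t' c d * U t a b * U 0 (t' * t ^ 3 ^ (m + 1) - t * t' ^ 3 ^ (m + 1)) w =
          U t a b * U t' c d := by
        rw [D.U_mul, D.U_mul t a b]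
        refine ⟨(b + d - a * t' - t ^ 2 * t' ^ 3 ^ (m + 1) + t * t' * t' ^ 3 ^ (m + 1)) -
          (d + b - c * t - t' ^ 2 * t ^ 3 ^ (m + 1) + t' * t * t ^ 3 ^ (m + 1)), ?_⟩
        rw [D.U_mul, zero_pow' m]
        congr 1 <;> ring
      obtain ⟨w, hw⟩ := hz
      have h1 : U 0 (t' * t ^ 3 ^ (m + 1) - t * t' ^ 3 ^ (m + 1)) w ∈ X := by
        have h2 : U 0 (t' * t ^ 3 ^ (m + 1) - t * t' ^ 3 ^ (m + 1)) w =
            (U t' c d * U t a b)⁻¹ * (U t a b * U t' c d) := by rw [← hw]; group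
        rw [h2]
        exact mul_mem (inv_mem (mul_mem hcd hab)) (mul_mem hab hcd)
      have h2 := mul_mem h1 (hZ (v - w))
      rw [U_split' D, add_sub_cancel] at h2
      exact h2
    obtain ⟨c, hc⟩ := exists_pow_ne hm hK
    have hk : ∀ s : K, s * s ^ 3 ^ (m + 1) * (c ^ 3 ^ (m + 1) - c) ∈ A := by
      intro s
      have h1 := hcomm (s * c) s
      have e1 : s * (s * c) ^ 3 ^ (m + 1) - s * c * s ^ 3 ^ (m + 1) =
          s * s ^ 3 ^ (m + 1) * (c ^ 3 ^ (m + 1) - c) := by rw [mul_pow]; ring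
      rwa [e1] at h1
    have hA : ∀ u, u ∈ A := by
      intro u
      obtain ⟨s, hs⟩ := add_pow_surjective hK (u / (c ^ 3 ^ (m + 1) - c))
      have hx : u = (s + s ^ 3 ^ (m + 1)) * (c ^ 3 ^ (m + 1) - c) := by
        rw [hs, div_mul_cancel₀ _ hc]
      have h1 := hk (s + 1)
      have h2 := hk s
      have h4 := hk 1
      have e2 : (s + 1) * (s + 1) ^ 3 ^ (m + 1) * (c ^ 3 ^ (m + 1) - c) -
          s * s ^ 3 ^ (m + 1) * (c ^ 3 ^ (m + 1) - c) - 1 * 1 ^ 3 ^ (m + 1) * (c ^ 3 ^ (m + 1) - c) = u := by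
        rw [add_pow_char_pow, one_pow, hx]; ring
      rw [← e2]
      exact A.sub_mem (A.sub_mem h1 h2) h4
    intro x hx
    obtain ⟨t, u, v, rfl⟩ := hx
    obtain ⟨a, b, hab⟩ := hlift t
    have h1 := mul_mem hab (hA (u - a) (v - b + a * 0))
    rw [D.U_mul, zero_pow' m] at h1
    have h2 : U (t + 0) (a + (u - a) - t * 0) (b + (v - b + a * 0) - a * 0 - t ^ 2 * 0 + t * 0 * 0) = U t u v := by
      congr 1 <;> ring
    rwa [h2] at h1
  faith t ht ht' hfa := by
    obtain ⟨a, rfl⟩ := torus D ht ht'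
    have h1 := hfa (U 1 0 0) ⟨1, 0, 0, rfl⟩
    obtain ⟨c, d, hcd⟩ := inv_coord D 1 0 0
    rw [h_conj D, hcd, D.U_mul, mem_vSub, mul_one] at h1
    have h2 : (a : K) ^ 3 ^ (m + 1) = 1 := by linear_combination h1
    have h3 : a = 1 := eq_one_of_pow_three hK (m + 1) a (Units.ext (by rw [Units.val_pow_eq_pow_val, h2, Units.val_one]))
    rw [h3, D.h_one]
  cnt r hr hrM := by
    have hV : Nat.card (vSub D) = Fintype.card K ^ 2 := by
      let f : K × K → vSub D := fun x => ⟨U 0 x.1 x.2, x.1, x.2, rfl⟩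
      have hf : Function.Bijective f := by
        constructor
        · rintro ⟨u, v⟩ ⟨u', v'⟩ he
          obtain ⟨-, rfl, rfl⟩ := U_injective D (congrArg Subtype.val he)
          rfl
        · rintro ⟨g, u, v, rfl⟩
          exact ⟨(u, v), rfl⟩
      rw [← Nat.card_congr (Equiv.ofBijective f hf), Nat.card_prod, Nat.card_eq_fintype_card]
      ring
    rw [relIndex_eq (vSub_le D) hV (b := Fintype.card K) (by rw [card_uSub]; ring), ← card_hSub D]
    intro hd
    exact hrM (hd.trans (Subgroup.card_subgroup_dvd_card _))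

/-- **Small Ree groups.** -/
theorem ree {G : Type*} [Group G] [IsSimpleGroup G] (h : Cfsg.Lie.IsoRee G) : ZP G := by
  obtain ⟨K, _, _, m, hm, hK, ⟨e⟩⟩ := h
  obtain ⟨U, h, n, D⟩ := Cfsg.Agent.ChevalleyStructure.Ree.Data.exists_data hK
  have hfin : Finite ↥(Cfsg.Lie.twistedG2 K (3 ^ m)) := finite D
  have hs : IsSimpleGroup ↥(Cfsg.Lie.twistedG2 K (3 ^ m)) := e.symm.isSimpleGroup
  exact (ZP.of_ro (ro hm hK D)).of_equiv e.symm

end Cfsg.Agent.H71.RoRee
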