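import Cfsg.Agent.H531.RealMove
import Cfsg.Agent.H967.CopSz

/-!
# `RealMove` for `Sz(q)`, `²G₂(q)`, `²F₄(q)`

(For S4161, task 88 of helper531.)
-/

set_option autoImplicit false

namespace Cfsg.Agent.H71.RealMoveTw

open Cfsg.Lie Cfsg.Agent.H531 Cfsg.Agent.H967.CopSz

universe u

theorem two_dvd {G : Type*} [Group G] {g : G} (h1 : g * g = 1) (h2 : g ≠ 1) : 2 ∣ Nat.card G := by
  have : orderOf g = 2 := by
    have hp : Fact (Nat.Prime 2) := ⟨Nat.prime_two⟩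
    exact orderOf_eq_prime (by rw [pow_two, h1]) h2
  rw [← this]
  exact orderOf_dvd_natCard g

/-! ### Suzuki groups -/

section Sz

open Cfsg.Agent.LieRecognition.SzMatrix Cfsg.Agent.H70.SzOut

variable {K : Type*} [Field K] [Fintype K] {m : ℕ}

theorem realMove_sz (hm : 1 ≤ m) (hF : Fintype.card K = 2 ^ (2 * m + 1)) :
    Cfsg.Agent.H531.RealMove ↥(Cfsg.Lie.Sz K (2 ^ (m + 1))) := by
  let H := good hF
  let h : Kˣ →* ↥(Cfsg.Lie.Sz K (2 ^ (m + 1))) :=
    { toFun := H.d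
      map_one' := H.d_one
      map_mul' := fun a b => (H.d_mul a b).symm }
  have hw1 : H.w ≠ 1 := fun hw => H.w_not_mem_borel (by rw [hw]; exact one_mem _)
  refine RealMove.of_field_units (two_dvd H.w_mul_w hw1) _ (FieldConj.of_row (row_sz hm hF)) h ?_ ?_ ?_
  · intro τ u
    exact Cfsg.Agent.H70.SzOut.fieldAut_d H τ u
  · intro u hu
    have : u = 1 := H.d_inj (hu.trans H.d_one.symm)
    rw [this, one_pow]
  · intro u
    refine ⟨H.w, ?_⟩
    show H.w * H.d u * H.w⁻¹ = (H.d u)⁻¹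
    rw [H.w_mul_d, mul_inv_cancel_right, H.d_inv]

end Sz

/-! ### Ree groups -/

section Ree

open Cfsg.Agent.ChevalleyStructure.Ree.Gens Cfsg.Agent.ChevalleyStructure.Ree Cfsg.Agent.LieRecognition
  Cfsg.Agent.LieRecognition.ReeAbs Cfsg.Agent.ChevalleyStructure.Ree.Normal

variable {K : Type*} [Field K] [Fintype K] {m : ℕ}

theorem realMove_ree (hm : 1 ≤ m) (hK : Fintype.card K = 3 ^ (2 * m + 1)) :
    Cfsg.Agent.H531.RealMove ↥(Cfsg.Lie.twistedG2 K (3 ^ m)) := by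
  obtain ⟨θ, c⟩ := exists_ctx hK
  have D := Data.data c
  refine RealMove.of_field_units (two_dvd D.n_n D.n_ne_one) _
    (FieldConj.of_row (row_ree hm hK)) (MonoidHom.mk' _ D.h_mul) ?_ ?_ ?_
  · intro τ u
    exact (Cfsg.Agent.H71.FldAut.reeFld c).onH τ u
  · intro u hu
    have : u = 1 := ReeSplit.h_injective D (hu.trans (map_one _).symm)
    rw [this, one_pow]
  · intro u
    refine ⟨Data.N c, ?_⟩
    rw [← map_inv]
    exact mul_inv_eq_iff_eq_mul.2 (D.n_h u)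

end Ree

/-! ### `²F₄` -/

section TwF4

open Cfsg.Agent.SplitTwo Cfsg.Agent.SplitTwo.RootSysZ Cfsg.Agent.KFacts.TwF4 Cfsg.Agent.KFacts.TwF4.Arc
  Cfsg.Agent.KFacts.TwF4.Inv Cfsg.Agent.TitsThree.RankTwoZ Cfsg.Agent.SplitTwo.ZS

variable {F : Type*} [Field F] {σ : F →+* F}

theorem chE_mul (a : ZMod 8) (c d c' d' : Fˣ) : chE σ a (c * c') (d * d') = chE σ a c d * chE σ a c' d' := by
  have key : ∀ n : ℕ, n < 8 → chE σ (n : ZMod 8) (c * c') (d * d') = chE σ (n : ZMod 8) c d * chE σ (n : ZMod 8) c' d' := by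
    intro n hn
    interval_cases n
    · rfl
    · rfl
    · show chE σ 2 _ _ = chE σ 2 _ _ * chE σ 2 _ _
      rw [chE_two, chE_two, chE_two, map_mul, mul_div_mul_comm]
    · show chE σ 3 _ _ = chE σ 3 _ _ * chE σ 3 _ _
      rw [chE_three, chE_three, chE_three, map_mul, mul_div_mul_comm]
    · show chE σ 4 _ _ = chE σ 4 _ _ * chE σ 4 _ _
      rw [chE_four, chE_four, chE_four, mul_inv]
    · show chE σ 5 _ _ = chE σ 5 _ _ * chE σ 5 _ _
      rw [chE_five, chE_five, chE_five, mul_inv]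
    · show chE σ 6 _ _ = chE σ 6 _ _ * chE σ 6 _ _
      rw [chE_six, chE_six, chE_six, map_mul, mul_div_mul_comm]
    · show chE σ 7 _ _ = chE σ 7 _ _ * chE σ 7 _ _
      rw [chE_seven, chE_seven, chE_seven, map_mul, mul_div_mul_comm]
  have := key a.val (ZMod.val_lt a)
  rwa [ZMod.natCast_zmod_val] at this

theorem chO_mul (a : ZMod 8) (c d c' d' : Fˣ) : chO σ a (c * c') (d * d') = chO σ a c d * chO σ a c' d' := by
  rw [chO, chO, chO, chE_mul, chE_mul, mul_mul_mul_comm]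

theorem chE_add_four (a : ZMod 8) (c d : Fˣ) : chE σ (a + 4) c d = (chE σ a c d)⁻¹ := by
  have key : ∀ n : ℕ, n < 8 → chE σ ((n : ZMod 8) + 4) c d = (chE σ (n : ZMod 8) c d)⁻¹ := by
    intro n hn
    interval_cases n
    · rfl
    · rfl
    · show chE σ 6 _ _ = (chE σ 2 _ _)⁻¹
      rw [chE_two, chE_six, inv_div]
    · show chE σ 7 _ _ = (chE σ 3 _ _)⁻¹
      rw [chE_three, chE_seven, inv_div]
    · show chE σ 0 _ _ = (chE σ 4 _ _)⁻¹
      rw [chE_four, chE_zero, inv_inv]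
    · show chE σ 1 _ _ = (chE σ 5 _ _)⁻¹
      rw [chE_five, chE_one, inv_inv]
    · show chE σ 2 _ _ = (chE σ 6 _ _)⁻¹
      rw [chE_two, chE_six, inv_div]
    · show chE σ 3 _ _ = (chE σ 7 _ _)⁻¹
      rw [chE_three, chE_seven, inv_div]
  have := key a.val (ZMod.val_lt a)
  rwa [ZMod.natCast_zmod_val] at this

theorem chO_add_four (a : ZMod 8) (c d : Fˣ) : chO σ (a + 4) c d = (chO σ a c d)⁻¹ := by
  rw [chO, chO, chE_add_four, add_right_comm, chE_add_four, mul_inv]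

theorem map_chE {τ : F ≃+* F} (hτ : ∀ t, τ (σ t) = σ (τ t)) (a : ZMod 8) (c d : Fˣ) :
    Units.map (τ : F →* F) (chE σ a c d) = chE σ a (Units.map (τ : F →* F) c) (Units.map (τ : F →* F) d) := by
  have hc : ∀ c : Fˣ, Units.map (τ : F →* F) (Units.map (σ : F →* F) c) =
      Units.map (σ : F →* F) (Units.map (τ : F →* F) c) := fun c => Units.ext (hτ c)
  have key : ∀ n : ℕ, n < 8 → Units.map (τ : F →* F) (chE σ (n : ZMod 8) c d) =
      chE σ (n : ZMod 8) (Units.map (τ : F →* F) c) (Units.map (τ : F →* F) d) := by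
    intro n hn
    interval_cases n
    · rfl
    · rfl
    · show Units.map (τ : F →* F) (chE σ 2 _ _) = chE σ 2 _ _
      rw [chE_two, chE_two, map_div, hc]
    · show Units.map (τ : F →* F) (chE σ 3 _ _) = chE σ 3 _ _
      rw [chE_three, chE_three, map_div, hc]
    · show Units.map (τ : F →* F) (chE σ 4 _ _) = chE σ 4 _ _
      rw [chE_four, chE_four, map_inv]
    · show Units.map (τ : F →* F) (chE σ 5 _ _) = chE σ 5 _ _
      rw [chE_five, chE_five, map_inv]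
    · show Units.map (τ : F →* F) (chE σ 6 _ _) = chE σ 6 _ _
      rw [chE_six, chE_six, map_div, hc]
    · show Units.map (τ : F →* F) (chE σ 7 _ _) = chE σ 7 _ _
      rw [chE_seven, chE_seven, map_div, hc]
  have := key a.val (ZMod.val_lt a)
  rwa [ZMod.natCast_zmod_val] at this

theorem map_chO {τ : F ≃+* F} (hτ : ∀ t, τ (σ t) = σ (τ t)) (a : ZMod 8) (c d : Fˣ) :
    Units.map (τ : F →* F) (chO σ a c d) = chO σ a (Units.map (τ : F →* F) c) (Units.map (τ : F →* F) d) := by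
  rw [chO, chO, map_mul, map_chE hτ, map_chE hτ]

variable {G : Type u} [Group G] (S : Full σ G)

/-- the torus elements are determined by their action -/
theorem eq_h {g : G} {c d : Fˣ} (ho : ∀ a t, g * S.o a t * g⁻¹ = S.o a ((chO σ a c d : F) * t))
    (he : ∀ a p u, g * S.e a p u * g⁻¹ = S.e a ((chE σ a c d : F) * p)
      ((chE σ a c d : F) * σ (chE σ a c d : F) * u)) : g = S.h c d := by
  have h1 : g ∈ torus S.R.X := by
    show Maps S.R.X g id
    intro k x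
    rw [id]
    rcases od_or_ev k with ⟨a, rfl⟩ | ⟨a, rfl⟩
    · rw [S.mem_odd, S.mem_odd]
      constructor
      · rintro ⟨t, ht⟩
        refine ⟨((chO σ a c d)⁻¹ : Fˣ) * t, ?_⟩
        have h2 := ho a (((chO σ a c d)⁻¹ : Fˣ) * t)
        rw [Units.mul_inv_cancel_left, ht] at h2
        exact (MulAut.conj g).injective h2
      · rintro ⟨t, rfl⟩
        exact ⟨_, (ho a t).symm⟩
    · rw [S.mem_even, S.mem_even]
      constructor
      · rintro ⟨p, u, ht⟩
        refine ⟨((chE σ a c d)⁻¹ : Fˣ) * p, ((chE σ a c d : F) * σ (chE σ a c d : F))⁻¹ * u, ?_⟩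
        have h2 := he a (((chE σ a c d)⁻¹ : Fˣ) * p) (((chE σ a c d : F) * σ (chE σ a c d : F))⁻¹ * u)
        rw [Units.mul_inv_cancel_left, mul_inv_cancel_left₀
          (mul_ne_zero (Units.ne_zero _) (by rw [map_ne_zero]; exact Units.ne_zero _)), ht] at h2
        exact (MulAut.conj g).injective h2
      · rintro ⟨p, u, rfl⟩
        exact ⟨_, _, (he a p u).symm⟩
  obtain ⟨c', d', rfl⟩ := (S.mem_torus _).1 h1
  have h2 := he 0 1 0
  have h3 := he 1 1 0
  rw [S.h_e] at h2 h3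
  have h4 := (S.injE 0 _ _ _ _ h2).1
  have h5 := (S.injE 1 _ _ _ _ h3).1
  rw [mul_one, mul_one, Units.val_inj] at h4 h5
  rw [chE_zero, chE_zero] at h4
  rw [chE_one, chE_one] at h5
  rw [h4, h5]

theorem h_mul (c d c' d' : Fˣ) : S.h (c * c') (d * d') = S.h c d * S.h c' d' := by
  refine (eq_h S ?_ ?_).symm
  · intro a t
    have e1 : S.h c d * S.h c' d' * S.o a t * (S.h c d * S.h c' d')⁻¹ =
      S.h c d * (S.h c' d' * S.o a t * (S.h c' d')⁻¹) * (S.h c d)⁻¹ := by group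
    rw [e1, S.h_o, S.h_o, chO_mul, Units.val_mul, mul_assoc]
  · intro a p u
    have e1 : S.h c d * S.h c' d' * S.e a p u * (S.h c d * S.h c' d')⁻¹ =
      S.h c d * (S.h c' d' * S.e a p u * (S.h c' d')⁻¹) * (S.h c d)⁻¹ := by group
    rw [e1, S.h_e, S.h_e, chE_mul, Units.val_mul, map_mul]
    congr 1 <;> ring

theorem h_one : S.h 1 1 = 1 := by
  have := h_mul S 1 1 1 1
  rw [mul_one] at this
  exact left_eq_mul.1 this

theorem chE_one_one (a : ZMod 8) : chE σ a 1 1 = 1 := by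
  have := chE_mul (σ := σ) a 1 1 1 1
  rw [mul_one] at this
  exact left_eq_mul.1 this

theorem chE_inv (a : ZMod 8) (c d : Fˣ) : chE σ a c⁻¹ d⁻¹ = (chE σ a c d)⁻¹ := by
  have := chE_mul (σ := σ) a c d c⁻¹ d⁻¹
  rw [mul_inv_cancel, mul_inv_cancel, chE_one_one] at this
  exact (inv_eq_of_mul_eq_one_right this.symm).symm

theorem chO_inv (a : ZMod 8) (c d : Fˣ) : chO σ a c⁻¹ d⁻¹ = (chO σ a c d)⁻¹ := by
  rw [chO, chO, chE_inv, chE_inv, mul_inv]

theorem rot4_o (a : ZMod 8) (t : F) : (S.rot ^ 4)⁻¹ * S.o a t * S.rot ^ 4 = S.o (a + 4) t := by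
  have h0 : a = a + 4 + 1 + 1 + 1 + 1 := by
    revert a
    decide
  have h1 : S.rot ^ 4 * S.o (a + 4) t * (S.rot ^ 4)⁻¹ = S.o (a + 4 + 1 + 1 + 1 + 1) t := by
    rw [← S.rot_o, ← S.rot_o, ← S.rot_o, ← S.rot_o]
    simp only [pow_succ, pow_zero, one_mul, mul_inv_rev, mul_assoc]
  rw [← h0] at h1
  rw [← h1]
  group

theorem rot4_e (a : ZMod 8) (p u : F) : (S.rot ^ 4)⁻¹ * S.e a p u * S.rot ^ 4 = S.e (a + 4) p u := by
  have h0 : a = a + 4 + 1 + 1 + 1 + 1 := by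
    revert a
    decide
  have h1 : S.rot ^ 4 * S.e (a + 4) p u * (S.rot ^ 4)⁻¹ = S.e (a + 4 + 1 + 1 + 1 + 1) p u := by
    rw [← S.rot_e, ← S.rot_e, ← S.rot_e, ← S.rot_e]
    simp only [pow_succ, pow_zero, one_mul, mul_inv_rev, mul_assoc]
  rw [← h0] at h1
  rw [← h1]
  group

theorem rot4_h (c d : Fˣ) : S.rot ^ 4 * S.h c d * (S.rot ^ 4)⁻¹ = S.h c⁻¹ d⁻¹ := by
  refine eq_h S ?_ ?_
  · intro a t
    have e1 : S.rot ^ 4 * S.h c d * (S.rot ^ 4)⁻¹ * S.o a t * (S.rot ^ 4 * S.h c d * (S.rot ^ 4)⁻¹)⁻¹ =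
      S.rot ^ 4 * (S.h c d * ((S.rot ^ 4)⁻¹ * S.o a t * S.rot ^ 4) * (S.h c d)⁻¹) * (S.rot ^ 4)⁻¹ := by group
    rw [e1, rot4_o, S.h_o, ← rot4_o, chO_add_four, chO_inv]
    group
  · intro a p u
    have e1 : S.rot ^ 4 * S.h c d * (S.rot ^ 4)⁻¹ * S.e a p u * (S.rot ^ 4 * S.h c d * (S.rot ^ 4)⁻¹)⁻¹ =
      S.rot ^ 4 * (S.h c d * ((S.rot ^ 4)⁻¹ * S.e a p u * S.rot ^ 4) * (S.h c d)⁻¹) * (S.rot ^ 4)⁻¹ := by group
    rw [e1, rot4_e, S.h_e, ← rot4_e, chE_add_four, chE_inv]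
    group

theorem map_h {τ : F ≃+* F} (hτ : ∀ t, τ (σ t) = σ (τ t)) {α : MulAut G} (ho : ∀ a t, α (S.o a t) = S.o a (τ t))
    (he : ∀ a p u, α (S.e a p u) = S.e a (τ p) (τ u)) (c d : Fˣ) :
    α (S.h c d) = S.h (Units.map (τ : F →* F) c) (Units.map (τ : F →* F) d) := by
  refine eq_h S ?_ ?_
  · intro a t
    have h1 : S.o a t = α (S.o a (τ.symm t)) := by rw [ho, τ.apply_symm_apply]
    rw [h1, ← map_mul, ← map_inv, ← map_mul, S.h_o, ho, map_mul, τ.apply_symm_apply, ← map_chO hτ]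
    rfl
  · intro a p u
    have h1 : S.e a p u = α (S.e a (τ.symm p) (τ.symm u)) := by rw [he, τ.apply_symm_apply, τ.apply_symm_apply]
    rw [h1, ← map_mul, ← map_inv, ← map_mul, S.h_e, he, map_mul, map_mul, map_mul, τ.apply_symm_apply,
      τ.apply_symm_apply, ← map_chE hτ, hτ]
    rfl

end TwF4

section TwF4Inst

open Cfsg.Agent.ChevalleyStructure.TwF4.TwistedFix Cfsg.Agent.KFacts.TwF4.Inst Cfsg.Agent.KFacts.TwF4

variable {K : Type*} [Field K] [Fintype K] {m : ℕ}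

theorem realMove_tf4 (hm : 1 ≤ m) (hK : Fintype.card K = 2 ^ (2 * m + 1)) :
    Cfsg.Agent.H531.RealMove ↥(Cfsg.Lie.twistedF4 K (2 ^ m)) := by
  have hch : CharP K 2 := Cfsg.Agent.ChevalleyStructure.TwF4.Twisted.charP_two hK
  obtain ⟨φ, hφ⟩ := exists_rln hK
  set S := full hK hφ with hS
  let h : Kˣ →* ↥(Cfsg.Lie.twistedF4 K (2 ^ m)) := MonoidHom.mk' (fun u => S.h u 1) (fun a b => by
    have := h_mul S a 1 b 1
    rwa [mul_one] at this)
  have h00 : S.o 0 0 = 1 := by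
    have := S.o_add 0 0 0
    rw [add_zero] at this
    exact mul_eq_left.1 this
  have h01 : S.o 0 1 * S.o 0 1 = 1 := by rw [S.o_add, one_add_one_eq_two, S.two, h00]
  have h02 : S.o 0 1 ≠ 1 := fun h1 => one_ne_zero (S.injO 0 (h1.trans h00.symm))
  refine RealMove.of_field_units (two_dvd h01 h02) _ (FieldConj.of_row (row_tf4 hm hK)) h ?_ ?_ ?_
  · intro τ u
    have h1 := map_h S (S2128.comm_phi τ hφ) (α := S2128.fld τ (2 ^ m)) (fun a t => S2128.fld_ro τ hφ a t)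
      (fun a p u => S2128.fld_re τ hφ a p u) u 1
    rw [map_one] at h1
    exact h1
  · intro u hu
    have h1 : S.h u 1 = S.h 1 1 := hu.trans (h_one S).symm
    rw [(S.h_inj _ _ _ _ h1).1, one_pow]
  · intro u
    refine ⟨S.rot ^ 4, ?_⟩
    rw [← map_inv]
    have := rot4_h S u 1
    rwa [inv_one] at this

end TwF4Inst

end Cfsg.Agent.H71.RealMoveTw
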