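import Mathlib
import Cfsg.Prelude.Def_Transfer

/-!
# S4615, T12: the Sylow subgroup of `C / U` (task 2247, cbar_sylow)
-/

set_option autoImplicit false

open Cfsg

namespace Cfsg.Agent.H71.CBarSyl

open Subgroup

universe u

theorem conj_pow_eq {C : Type*} [Group C] {g w a : C} (hgw : g * w * g⁻¹ = w * a) (hga : g * a = a * g) (n : ℕ) :
    g ^ n * w * (g ^ n)⁻¹ = w * a ^ n := by
  induction n with
  | zero => simp
  | succ n ih =>
    have h1 : g ^ (n + 1) * w * (g ^ (n + 1))⁻¹ = g ^ n * (g * w * g⁻¹) * (g ^ n)⁻¹ := by rw [pow_succ]; group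
    have h2 : g ^ n * a = a * g ^ n := (Commute.pow_left (show Commute g a from hga) n).eq
    calc g ^ (n + 1) * w * (g ^ (n + 1))⁻¹ = g ^ n * (w * a) * (g ^ n)⁻¹ := by rw [h1, hgw]
      _ = (g ^ n * w * (g ^ n)⁻¹) * (g ^ n * a * (g ^ n)⁻¹) := by group
      _ = w * a ^ n * a := by rw [ih, h2]; group
      _ = w * a ^ (n + 1) := by rw [pow_succ, mul_assoc]

/-- a coprime element centralising a commutator -/
theorem comm_of_coprime {C : Type*} [Group C] {g w a : C} {m p : ℕ} (hgw : g * w * g⁻¹ = w * a) (hga : g * a = a * g)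
    (hm : g ^ m = 1) (ha : ∃ k : ℕ, a ^ p ^ k = 1) (hc : Nat.Coprime m p) : g * w = w * g := by
  have h1 := conj_pow_eq hgw hga m
  rw [hm, one_mul, inv_one, mul_one] at h1
  have h2 : a ^ m = 1 := (left_eq_mul.1 h1)
  obtain ⟨k, hk⟩ := ha
  have h3 : a = 1 := by
    have h4 : orderOf a ∣ 1 := by
      have h5 : Nat.Coprime m (p ^ k) := Nat.Coprime.pow_right k hc
      rw [← h5.gcd_eq_one]
      exact Nat.dvd_gcd (orderOf_dvd_of_pow_eq_one h2) (orderOf_dvd_of_pow_eq_one hk)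
    exact orderOf_eq_one_iff.1 (Nat.dvd_one.1 h4)
  rw [h3, mul_one] at hgw
  exact mul_inv_eq_iff_eq_mul.1 hgw

/-- the extraspecial case, in `C` -/
theorem central {C : Type*} [Group C] {p : ℕ} {P U : Subgroup C} (hPp : IsPGroup p P) (hU : U ≤ center C) (hUP : U ≤ P)
    {y : C} (hcomm : ∀ w ∈ P, w * y * w⁻¹ * y⁻¹ ∈ center C)
    (hA : ∀ w ∈ P, w * y = y * w → ∃ i : ℤ, ∃ u ∈ U, w = y ^ i * u) {g : C} (hgP : ∀ w ∈ P, g * w * g⁻¹ ∈ P)
    (hgy : y⁻¹ * (g * y * g⁻¹) ∈ U) {m : ℕ} (hm : g ^ m = 1) (hc : Nat.Coprime m p) {w : C} (hw : w ∈ P) :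
    g * w = w * g := by
  have hpp : ∀ a ∈ P, ∃ k : ℕ, a ^ p ^ k = 1 := by
    intro a ha
    obtain ⟨k, hk⟩ := hPp ⟨a, ha⟩
    exact ⟨k, congrArg Subtype.val hk⟩
  have hcen : ∀ a ∈ center C, ∀ b : C, b * a = a * b := fun a ha b => mem_center_iff.1 ha b
  have h1 : g * y = y * g := by
    refine comm_of_coprime (a := y⁻¹ * (g * y * g⁻¹)) (by group) (hcen _ (hU hgy) g) hm (hpp _ (hUP hgy)) hc
  set a := w⁻¹ * (g * w * g⁻¹) with ha
  have haP : a ∈ P := mul_mem (inv_mem hw) (hgP w hw)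
  have h2 : a * y = y * a := by
    obtain ⟨c, hcdef⟩ : ∃ c, c = w * y * w⁻¹ * y⁻¹ := ⟨_, rfl⟩
    have hgc : g * c = c * g := by rw [hcdef]; exact hcen _ (hcomm w hw) g
    have h3 : w * y * w⁻¹ = c * y := by rw [hcdef]; group
    have h4 : g⁻¹ * y * g = y := by rw [mul_assoc, ← h1]; group
    have h5 : (g * w * g⁻¹) * y * (g * w * g⁻¹)⁻¹ = w * y * w⁻¹ := by
      calc (g * w * g⁻¹) * y * (g * w * g⁻¹)⁻¹ = g * (w * (g⁻¹ * y * g) * w⁻¹) * g⁻¹ := by group
        _ = g * (c * y) * g⁻¹ := by rw [h4, h3]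
        _ = (g * c) * y * g⁻¹ := by group
        _ = c * (g * y) * g⁻¹ := by rw [hgc]; group
        _ = c * y := by rw [h1]; group
        _ = w * y * w⁻¹ := h3.symm
    have h6 : a * y * a⁻¹ = y := by
      calc a * y * a⁻¹ = w⁻¹ * ((g * w * g⁻¹) * y * (g * w * g⁻¹)⁻¹) * w := by rw [ha]; group
        _ = y := by rw [h5]; group
    exact mul_inv_eq_iff_eq_mul.1 h6
  obtain ⟨i, u, hu, hau⟩ := hA a haP h2
  have h3 : g * a = a * g := by
    rw [hau]
    have h4 : g * y ^ i = y ^ i * g := (Commute.zpow_right (show Commute g y from h1) i).eq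
    calc g * (y ^ i * u) = (g * y ^ i) * u := by group
      _ = y ^ i * (g * u) := by rw [h4]; group
      _ = y ^ i * u * g := by rw [hcen _ (hU hu)]; group
  exact comm_of_coprime (by rw [ha]; group) h3 hm (hpp a haP) hc

/-- powers: the `p`-part and the `p'`-part -/
theorem exists_parts {H : Type*} [Group H] [Finite H] {p : ℕ} [hp : Fact p.Prime] (h : H) :
    ∃ a b : H, h = a * b ∧ a ∈ zpowers h ∧ b ∈ zpowers h ∧ (∃ k : ℕ, a ^ p ^ k = 1) ∧
      ∃ m : ℕ, m ≠ 0 ∧ Nat.Coprime m p ∧ b ^ m = 1 := by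
  obtain ⟨k, m, hpm, hn⟩ := Nat.exists_eq_pow_mul_and_not_dvd (orderOf_pos h).ne' p hp.out.one_lt.ne'
  have hm0 : m ≠ 0 := by rintro rfl; exact hpm (dvd_zero p)
  have hcop : Nat.Coprime (p ^ k) m := Nat.Coprime.pow_left k ((Nat.Prime.coprime_iff_not_dvd hp.out).2 hpm)
  have hbez := Nat.gcd_eq_gcd_ab (p ^ k) m
  rw [hcop.gcd_eq_one] at hbez
  set u := Nat.gcdA (p ^ k) m
  set v := Nat.gcdB (p ^ k) m
  refine ⟨h ^ ((m : ℤ) * v), h ^ ((p ^ k : ℕ) * u), ?_, ⟨_, rfl⟩, ⟨_, rfl⟩, ⟨k, ?_⟩, m, hm0, ?_, ?_⟩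
  · rw [← zpow_add, add_comm, ← hbez, Nat.cast_one, zpow_one]
  · rw [← zpow_natCast, ← zpow_mul]
    have e : (m : ℤ) * v * ((p ^ k : ℕ) : ℤ) = ((orderOf h : ℕ) : ℤ) * v := by
      rw [hn]; push_cast; ring
    rw [e, zpow_mul, zpow_natCast, pow_orderOf_eq_one, one_zpow]
  · exact ((Nat.Prime.coprime_iff_not_dvd hp.out).2 hpm).symm
  · rw [← zpow_natCast, ← zpow_mul]
    have e : ((p ^ k : ℕ) : ℤ) * u * (m : ℤ) = ((orderOf h : ℕ) : ℤ) * u := by
      rw [hn]; push_cast; ring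
    rw [e, zpow_mul, zpow_natCast, pow_orderOf_eq_one, one_zpow]

/-- elements of a coprime order lift through a central `p`-subgroup -/
theorem exists_lift {C : Type*} [Group C] {p : ℕ} (U : Subgroup C) [U.Normal] (hUp : ∀ u ∈ U, u ^ p = 1)
    {h : C ⧸ U} {m : ℕ} (hc : Nat.Coprime m p) (hm : h ^ m = 1) :
    ∃ g : C, (g : C ⧸ U) = h ∧ g ^ m = 1 := by
  obtain ⟨g₀, rfl⟩ := QuotientGroup.mk_surjective h
  have h1 : g₀ ^ m ∈ U := by
    rw [← QuotientGroup.eq_one_iff, QuotientGroup.mk_pow]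
    exact hm
  have hbez := Nat.gcd_eq_gcd_ab m p
  rw [hc.gcd_eq_one] at hbez
  set a := Nat.gcdA m p
  set b := Nat.gcdB m p
  refine ⟨g₀ ^ ((p : ℤ) * b), ?_, ?_⟩
  · have e : (p : ℤ) * b = 1 - (m : ℤ) * a := by
      push_cast at hbez
      linarith
    rw [QuotientGroup.mk_zpow, e, zpow_sub, zpow_one, zpow_mul, zpow_natCast, hm, one_zpow, inv_one, mul_one]
  · rw [← zpow_natCast, ← zpow_mul]
    have e : (p : ℤ) * b * (m : ℤ) = (m : ℤ) * (p : ℤ) * b := by ring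
    rw [e, zpow_mul, zpow_mul, zpow_natCast, zpow_natCast, hUp _ h1, one_zpow]

/-- in an extraspecial group of order `p³` the centraliser of a noncentral element `y` is `⟨y⟩ Z` -/
theorem cent_extra {P : Type*} [Group P] [Finite P] {p : ℕ} [hp : Fact p.Prime] (hE : IsExtraspecial p P)
    (hc : Nat.card P = p ^ 3) {y : P} (hy : y ∉ center P) {w : P} (hw : w * y = y * w) :
    ∃ i : ℤ, ∃ u ∈ center P, w = y ^ i * u := by
  have hPp := hE.1.1
  set A := centralizer ({y} : Set P) with hA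
  set E := zpowers y ⊔ center P with hEd
  have hEA : E ≤ A := by
    rw [hEd, sup_le_iff]
    refine ⟨?_, ?_⟩
    · rw [zpowers_le, hA, mem_centralizer_singleton_iff]
    · intro z hz
      rw [hA, mem_centralizer_singleton_iff]
      exact (mem_center_iff.1 hz y).symm
  have hAtop : A ≠ ⊤ := by
    intro h
    apply hy
    rw [mem_center_iff]
    intro g
    have h1 : g ∈ A := h ▸ mem_top g
    rw [hA, mem_centralizer_singleton_iff] at h1
    exact h1
  obtain ⟨a, ha⟩ := (IsPGroup.iff_card.1 (hPp.to_subgroup A))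
  obtain ⟨b, hb⟩ := (IsPGroup.iff_card.1 (hPp.to_subgroup E))
  have h1 : 1 < p := hp.out.one_lt
  have ha3 : a < 3 := by
    by_contra h3
    push Not at h3
    apply hAtop
    apply Subgroup.eq_top_of_card_eq
    apply le_antisymm (Subgroup.card_le_card_group A)
    rw [ha, hc]
    exact Nat.pow_le_pow_right (by omega) h3
  have hb2 : 2 ≤ b := by
    by_contra h2
    have h3 : Nat.card E ≤ Nat.card (center P) := by
      rw [hb, hE.2]
      calc p ^ b ≤ p ^ 1 := Nat.pow_le_pow_right (by omega) (by omega)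
        _ = p := pow_one p
    have h4 : center P = E := Subgroup.eq_of_le_of_card_ge le_sup_right h3
    apply hy
    rw [h4]
    exact le_sup_left (a := zpowers y) (mem_zpowers y)
  have hAE : A ≤ E := by
    have h3 : E = A := by
      apply Subgroup.eq_of_le_of_card_ge hEA
      rw [ha, hb]
      exact Nat.pow_le_pow_right (by omega) (by omega)
    exact h3.ge
  have hwA : w ∈ A := by rw [hA, mem_centralizer_singleton_iff]; exact hw
  have hwE := hAE hwA
  rw [hEd, mem_sup_of_normal_right] at hwE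
  obtain ⟨_, ⟨i, rfl⟩, u, hu, h⟩ := hwE
  exact ⟨i, u, hu, h.symm⟩

/-- T12. -/
theorem cbar_sylow {C : Type u} [Group C] [Finite C] {p : ℕ} [hp : Fact p.Prime] (_hp2 : p ≠ 2)
    (U : Subgroup C) [U.Normal] (hU : U ≤ Subgroup.center C) (hUc : Nat.card U = p) (P : Sylow p C)
    (hP : Nat.card P = p ^ 2 ∨ (IsExtraspecial p P ∧ Nat.card P = p ^ 3)) :
    ∃ Q : Sylow p (C ⧸ U), (∀ a b : Q, a * b = b * a) ∧
      (∀ z ∈ (Q : Subgroup (C ⧸ U)), z ≠ 1 →
        Subgroup.centralizer ({z} : Set (C ⧸ U)) ⊓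
            Subgroup.normalizer ((Q : Subgroup (C ⧸ U)) : Set (C ⧸ U)) =
          Subgroup.centralizer ((Q : Subgroup (C ⧸ U)) : Set (C ⧸ U))) ∧
      Nat.card Q * p = Nat.card P := by
  have hUpg : IsPGroup p U := IsPGroup.of_card (n := 1) (by rw [hUc, pow_one])
  have hUP : U ≤ (P : Subgroup C) := hUpg.le_sylow_of_normal P
  have hUp1 : ∀ u ∈ U, u ^ p = 1 := by
    intro u hu
    have h1 : (⟨u, hu⟩ : U) ^ Nat.card U = 1 := pow_card_eq_one'
    rw [hUc] at h1
    exact congrArg Subtype.val h1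
  have hsurj : Function.Surjective (QuotientGroup.mk' U) := QuotientGroup.mk'_surjective U
  set Q : Sylow p (C ⧸ U) := P.mapSurjective hsurj with hQ
  have hmemQ : ∀ z : C ⧸ U, z ∈ (Q : Subgroup (C ⧸ U)) ↔ ∃ w ∈ (P : Subgroup C), (w : C ⧸ U) = z := by
    intro z
    rw [hQ, Sylow.coe_mapSurjective]
    rfl
  have hcardQ : Nat.card Q * p = Nat.card P := by
    have h1 := Subgroup.relIndex_ker (K := (P : Subgroup C)) (QuotientGroup.mk' U)
    rw [QuotientGroup.ker_mk'] at h1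
    have h2 := Subgroup.relIndex_mul_relIndex ⊥ U (P : Subgroup C) bot_le hUP
    rw [Subgroup.relIndex_bot_left, Subgroup.relIndex_bot_left, h1, hUc] at h2
    rw [mul_comm]
    exact h2
  -- in the extraspecial case `P' = Z(P) = U`
  have hZU : IsExtraspecial p P → ∀ y : P, y ∈ center P ↔ (y : C) ∈ U := by
    intro hE
    have h1 : U.subgroupOf (P : Subgroup C) ≤ center P := by
      intro y hy
      rw [mem_center_iff]
      intro g
      apply Subtype.ext
      exact mem_center_iff.1 (hU (mem_subgroupOf.1 hy)) (g : C)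
    have h2 : U.subgroupOf (P : Subgroup C) = center P := by
      apply Subgroup.eq_of_le_of_card_ge h1
      rw [hE.2, Nat.card_congr (Subgroup.subgroupOfEquivOfLe hUP).toEquiv, hUc]
    intro y
    rw [← h2, mem_subgroupOf]
  have hcomU : IsExtraspecial p P → ∀ a ∈ (P : Subgroup C), ∀ b ∈ (P : Subgroup C), a * b * a⁻¹ * b⁻¹ ∈ U := by
    intro hE a ha b hb
    have h1 : (⟨a, ha⟩ : P) * ⟨b, hb⟩ * (⟨a, ha⟩)⁻¹ * (⟨b, hb⟩)⁻¹ ∈ center P := by
      rw [← hE.1.2.2]
      exact commutator_mem_commutator (mem_top _) (mem_top _)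
    exact (hZU hE _).1 h1
  -- `Q` is commutative
  have hcomm : ∀ a b : Q, a * b = b * a := by
    rcases hP with hP | ⟨hE, -⟩
    · have h1 : Nat.card Q = p := by
        rw [hP, pow_two] at hcardQ
        exact Nat.eq_of_mul_eq_mul_right hp.out.pos hcardQ
      have : IsCyclic Q := isCyclic_of_prime_card h1
      intro a b
      exact (IsCyclic.commGroup (α := Q)).mul_comm a b
    · rintro ⟨a, ha⟩ ⟨b, hb⟩
      apply Subtype.ext
      show a * b = b * a
      obtain ⟨v, hv, rfl⟩ := (hmemQ a).1 ha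
      obtain ⟨w, hw, rfl⟩ := (hmemQ b).1 hb
      have h1 := hcomU hE v hv w hw
      rw [← QuotientGroup.eq_one_iff, QuotientGroup.mk_mul, QuotientGroup.mk_mul, QuotientGroup.mk_mul,
        QuotientGroup.mk_inv, QuotientGroup.mk_inv, mul_inv_eq_one, mul_inv_eq_iff_eq_mul] at h1
      exact h1
  refine ⟨Q, hcomm, ?_, hcardQ⟩
  intro z hz hz1
  apply le_antisymm
  swap
  · intro h hh
    refine ⟨?_, ?_⟩
    · exact centralizer_le (Set.singleton_subset_iff.2 hz) hh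
    · exact centralizer_le_normalizer _ hh
  rintro h ⟨h1, h2⟩
  replace h1 : h * z = z * h := mem_centralizer_singleton_iff.1 h1
  rw [mem_centralizer_iff]
  rcases hP with hP | ⟨hE, hP⟩
  · -- `|Q| = p`
    have hc : Nat.card Q = p := by
      rw [hP, pow_two] at hcardQ
      exact Nat.eq_of_mul_eq_mul_right hp.out.pos hcardQ
    intro w hw
    have h3 : (⟨w, hw⟩ : Q) ∈ zpowers (⟨z, hz⟩ : Q) :=
      mem_zpowers_of_prime_card hc (fun h => hz1 (congrArg Subtype.val h))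
    obtain ⟨i, hi⟩ := h3
    have h4 : z ^ i = w := congrArg Subtype.val hi
    rw [← h4]
    exact (Commute.zpow_left (show Commute z h from h1.symm) i).eq
  -- the extraspecial case
  obtain ⟨a, b, hab, ha, hb, ⟨k, hk⟩, m, hm0, hmp, hbm⟩ := exists_parts (p := p) h
  have hNz : zpowers h ≤ normalizer ((Q : Subgroup (C ⧸ U)) : Set (C ⧸ U)) := zpowers_le.2 h2
  -- the `p`-part lies in `Q`
  have haQ : a ∈ (Q : Subgroup (C ⧸ U)) := by
    have h3 : IsPGroup p (zpowers a) := by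
      obtain ⟨j, -, hj⟩ := (Nat.dvd_prime_pow hp.out).1 (orderOf_dvd_of_pow_eq_one hk)
      exact IsPGroup.of_card (n := j) (by rw [Nat.card_zpowers, hj])
    have h4 := h3.inf_normalizer_sylow Q
    exact (h4.le ⟨mem_zpowers a, hNz ha⟩).2
  -- the `p'`-part
  have hbN := hNz hb
  have hbz : b * z = z * b := by
    obtain ⟨i, rfl⟩ := hb
    exact (Commute.zpow_left (show Commute h z from h1) i).eq
  obtain ⟨g, rfl, hgm⟩ := exists_lift U hUp1 hmp hbm
  obtain ⟨y, hy, rfl⟩ := (hmemQ z).1 hz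
  have hyU : y ∉ U := fun hc => hz1 ((QuotientGroup.eq_one_iff y).2 hc)
  have hgP : ∀ w ∈ (P : Subgroup C), g * w * g⁻¹ ∈ (P : Subgroup C) := by
    intro w hw
    have h3 := (mem_normalizer_iff.1 hbN (w : C ⧸ U)).1 ((hmemQ _).2 ⟨w, hw, rfl⟩)
    obtain ⟨v, hv, hvw⟩ := (hmemQ _).1 h3
    have h4 : v⁻¹ * (g * w * g⁻¹) ∈ U := by
      rw [← QuotientGroup.eq]
      exact hvw
    have h5 := mul_mem hv (hUP h4)
    rwa [mul_inv_cancel_left] at h5
  have hcent : ∀ w ∈ (P : Subgroup C), g * w = w * g := by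
    intro w hw
    refine central P.isPGroup' hU hUP (y := y) (fun v hv => hU (hcomU hE v hv y hy)) ?_ hgP ?_ hgm hmp hw
    · intro v hv hvy
      obtain ⟨i, u, hu, hvi⟩ := cent_extra hE hP (y := ⟨y, hy⟩) (w := ⟨v, hv⟩) (fun hc => hyU ((hZU hE _).1 hc))
        (Subtype.ext hvy)
      exact ⟨i, u, (hZU hE u).1 hu, by
        have h3 := congrArg Subtype.val hvi
        simpa using h3⟩
    · rw [← QuotientGroup.eq, QuotientGroup.mk_mul, QuotientGroup.mk_mul, QuotientGroup.mk_inv, hbz]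
      group
  intro w hw
  obtain ⟨v, hv, rfl⟩ := (hmemQ w).1 hw
  have h3 : (g : C ⧸ U) * (v : C ⧸ U) = (v : C ⧸ U) * (g : C ⧸ U) := by
    rw [← QuotientGroup.mk_mul, hcent v hv, QuotientGroup.mk_mul]
  have h4 : a * (v : C ⧸ U) = (v : C ⧸ U) * a := congrArg Subtype.val (hcomm ⟨a, haQ⟩ ⟨_, hw⟩)
  rw [hab]
  calc (v : C ⧸ U) * (a * (g : C ⧸ U)) = ((v : C ⧸ U) * a) * g := by group
    _ = a * ((v : C ⧸ U) * g) := by rw [← h4]; group
    _ = a * g * v := by rw [← h3]; group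

end Cfsg.Agent.H71.CBarSyl
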