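import Cfsg.Agent.H370.DP.Def2
import Cfsg.Prelude.Def_Classical

/-!
# Primes dividing the order of one element of `SU_D(q)` (task 1351, project S3624)

* `div_count` : `s` distinct divisors `d` of `n` with `D < c d` force `s D < c n`;
* `orbit_count` : the same for the orbits of a permutation of a set of at most `D` elements;
* `exists_eig` : a prime dividing the order of a linear map divides the order of an eigenvalue;
* `ulin` : the unitary linear lemma.
-/

set_option autoImplicit false

namespace Cfsg.Agent.H71.Ulin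

open Cfsg Cfsg.Agent.H370.DP

theorem div_count {n D c : ℕ} (hn : 0 < n) {B : Finset ℕ} (hne : B.Nonempty)
    (hB : ∀ d ∈ B, d ∣ n ∧ D < c * d) : B.card * D < c * n := by
  classical
  obtain ⟨d, hd, hdn⟩ : ∃ d ∈ B, B.card ≤ n / d := by
    by_contra hcon
    push Not at hcon
    have h1 : B.image (fun d => n / d) ⊆ Finset.Ico 1 B.card := by
      intro a ha
      obtain ⟨d, hd, rfl⟩ := Finset.mem_image.1 ha
      rw [Finset.mem_Ico]
      exact ⟨Nat.div_pos (Nat.le_of_dvd hn (hB d hd).1) (Nat.pos_of_dvd_of_pos (hB d hd).1 hn), hcon d hd⟩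
    have h2 : (B.image (fun d => n / d)).card = B.card := by
      apply Finset.card_image_of_injOn
      intro a ha b hb hab
      obtain ⟨a', ha'⟩ := (hB a ha).1
      obtain ⟨b', hb'⟩ := (hB b hb).1
      have ha0 : 0 < a := Nat.pos_of_dvd_of_pos (hB a ha).1 hn
      have hb0 : 0 < b := Nat.pos_of_dvd_of_pos (hB b hb).1 hn
      have e1 : n / a = a' := by rw [ha', Nat.mul_div_cancel_left _ ha0]
      have e2 : n / b = b' := by rw [hb', Nat.mul_div_cancel_left _ hb0]
      have hab' : n / a = n / b := hab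
      rw [e1, e2] at hab'
      subst hab'
      have ha'0 : 0 < a' := by
        rcases Nat.eq_zero_or_pos a' with h | h
        · rw [h, mul_zero] at ha'
          omega
        · exact h
      exact Nat.eq_of_mul_eq_mul_right ha'0 (ha'.symm.trans hb')
    have h3 := Finset.card_le_card h1
    rw [h2, Nat.card_Ico] at h3
    have h4 := hne.card_pos
    omega
  obtain ⟨k, hk⟩ := (hB d hd).1
  have hd0 : 0 < d := Nat.pos_of_dvd_of_pos (hB d hd).1 hn
  rw [hk, Nat.mul_div_cancel_left _ hd0] at hdn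
  have h5 := (hB d hd).2
  calc B.card * D < B.card * (c * d) := Nat.mul_lt_mul_of_pos_left h5 hne.card_pos
    _ ≤ k * (c * d) := Nat.mul_le_mul_right _ hdn
    _ = c * n := by rw [hk]; ring

/-- **Counting along the orbits of a permutation.** -/
theorem orbit_count {α : Type*} [Fintype α] [DecidableEq α] (σ : Equiv.Perm α) {D c : ℕ} (hD : Fintype.card α ≤ D)
    (hc : 1 ≤ c) {A : Finset ℕ} {ν : ℕ → ℕ} (hν : Set.InjOn ν (A : Set ℕ))
    (hdiv : ∀ r ∈ A, ∃ x : α, ν r ∣ Function.minimalPeriod σ x) (hbig : ∀ r ∈ A, D < c * ν r) : A.card < c := by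
  classical
  rcases A.eq_empty_or_nonempty with rfl | hA
  · rw [Finset.card_empty]
    exact hc
  have hex : ∀ r : ℕ, ∃ x : α, r ∈ A → ν r ∣ Function.minimalPeriod σ x := by
    intro r
    by_cases hr : r ∈ A
    · obtain ⟨x, hx⟩ := hdiv r hr
      exact ⟨x, fun _ => hx⟩
    · obtain ⟨r', hr'⟩ := hA
      obtain ⟨x, -⟩ := hdiv r' hr'
      exact ⟨x, fun h => absurd h hr⟩
  choose x hx using hex
  let orb : α → Finset α := fun a => Finset.univ.filter fun b => σ.SameCycle a b
  have horb : ∀ a, (orb a).card = Function.minimalPeriod σ a := by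
    intro a
    have hper : 0 < Function.minimalPeriod σ a :=
      Function.minimalPeriod_pos_of_mem_periodicPts (σ.injective.mem_periodicPts a)
    have h1 : orb a = (Finset.range (Function.minimalPeriod σ a)).image (fun i => σ^[i] a) := by
      ext b
      rw [Finset.mem_filter, Finset.mem_image]
      constructor
      · rintro ⟨-, h⟩
        obtain ⟨i, hi⟩ := h.exists_nat_pow_eq
        refine ⟨i % Function.minimalPeriod σ a, Finset.mem_range.2 (Nat.mod_lt _ hper), ?_⟩
        rw [Function.iterate_mod_minimalPeriod_eq, ← hi, Equiv.Perm.iterate_eq_pow]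
      · rintro ⟨i, -, rfl⟩
        refine ⟨Finset.mem_univ _, i, ?_⟩
        rw [zpow_natCast, Equiv.Perm.iterate_eq_pow]
    rw [h1, Finset.card_image_of_injOn, Finset.card_range]
    intro i hi j hj hij
    exact Function.iterate_injOn_Iio_minimalPeriod (Finset.mem_range.1 hi) (Finset.mem_range.1 hj) hij
  let T : Finset (Finset α) := A.image fun r => orb (x r)
  have hT : T.Nonempty := hA.image _
  have hdisj : ∀ O ∈ T, ∀ O' ∈ T, O ≠ O' → Disjoint O O' := by
    intro O hO O' hO' hne
    obtain ⟨r, -, rfl⟩ := Finset.mem_image.1 hO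
    obtain ⟨s, -, rfl⟩ := Finset.mem_image.1 hO'
    rw [Finset.disjoint_left]
    intro b hb hb'
    apply hne
    have h1 : σ.SameCycle (x r) b := (Finset.mem_filter.1 hb).2
    have h2 : σ.SameCycle (x s) b := (Finset.mem_filter.1 hb').2
    ext a
    rw [Finset.mem_filter, Finset.mem_filter]
    refine and_congr_right fun _ => ⟨fun h => h2.trans (h1.symm.trans h), fun h => h1.trans (h2.symm.trans h)⟩
  have hsum : ∑ O ∈ T, O.card ≤ D := by
    have h1 : (T.biUnion id).card = ∑ O ∈ T, (id O : Finset α).card := Finset.card_biUnion (fun O hO O' hO' h => hdisj O hO O' hO' h)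
    refine le_trans (le_of_eq h1.symm) (le_trans (Finset.card_le_univ _) hD)
  have hfib : ∀ O ∈ T, (A.filter fun r => orb (x r) = O).card * D < c * O.card := by
    intro O hO
    obtain ⟨r₀, hr₀, rfl⟩ := Finset.mem_image.1 hO
    have h1 : ((A.filter fun r => orb (x r) = orb (x r₀)).image ν).card =
        (A.filter fun r => orb (x r) = orb (x r₀)).card := by
      apply Finset.card_image_of_injOn
      intro a ha b hb
      exact hν (Finset.mem_filter.1 ha).1 (Finset.mem_filter.1 hb).1
    rw [← h1]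
    refine div_count ?_ ?_ ?_
    · rw [horb]
      exact Function.minimalPeriod_pos_of_mem_periodicPts (σ.injective.mem_periodicPts _)
    · exact ⟨ν r₀, Finset.mem_image.2 ⟨r₀, Finset.mem_filter.2 ⟨hr₀, rfl⟩, rfl⟩⟩
    · intro d hd
      obtain ⟨r, hr, rfl⟩ := Finset.mem_image.1 hd
      obtain ⟨hrA, hr2⟩ := Finset.mem_filter.1 hr
      refine ⟨?_, hbig r hrA⟩
      rw [← hr2, horb]
      exact hx r hrA
  have hcard : A.card = ∑ O ∈ T, (A.filter fun r => orb (x r) = O).card :=
    Finset.card_eq_sum_card_image _ _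
  have h1 : A.card * D < c * D := by
    calc A.card * D = ∑ O ∈ T, (A.filter fun r => orb (x r) = O).card * D := by rw [hcard, Finset.sum_mul]
      _ < ∑ O ∈ T, c * O.card := Finset.sum_lt_sum_of_nonempty hT hfib
      _ = c * ∑ O ∈ T, O.card := by rw [Finset.mul_sum]
      _ ≤ c * D := Nat.mul_le_mul_left _ hsum
  exact Nat.lt_of_mul_lt_mul_right h1

section Eig

variable {K V : Type*} [Field K] [IsAlgClosed K] [AddCommGroup V] [Module K V] [FiniteDimensional K V]

/-- a prime dividing the order of a linear map divides the order of an eigenvalue -/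
theorem exists_eig (f : Module.End K V) {m r : ℕ} (hr : r.Prime) (hrK : (r : K) ≠ 0) (hm : f ^ m = 1) (hrm : r ∣ m)
    (hne : f ^ (m / r) ≠ 1) : ∃ x : K, f.HasEigenvalue x ∧ r ∣ orderOf x := by
  obtain ⟨k, rfl⟩ := hrm
  rw [Nat.mul_div_cancel_left _ hr.pos] at hne
  set N : Module.End K V := f ^ k with hN
  have hcomm : ∀ u, f ((N - 1) u) = (N - 1) (f u) := by
    intro u
    have h1 : f * (N - 1) = (N - 1) * f := by
      rw [hN, mul_sub, sub_mul, mul_one, one_mul, ← pow_succ', ← pow_succ]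
    exact congrArg (fun g : Module.End K V => g u) h1
  let W : Submodule K V := LinearMap.range (N - 1)
  have hW : ∀ w ∈ W, f w ∈ W := by
    rintro _ ⟨u, rfl⟩
    exact ⟨f u, (hcomm u).symm⟩
  have hWne : Nontrivial W := by
    rw [Submodule.nontrivial_iff_ne_bot]
    intro h
    apply hne
    have h1 : N - 1 = 0 := LinearMap.range_eq_bot.1 h
    exact sub_eq_zero.1 h1
  obtain ⟨x, hx⟩ := Module.End.exists_eigenvalue (f.restrict hW)
  obtain ⟨w, hw⟩ := hx.exists_hasEigenvector
  have hw0 : (w : V) ≠ 0 := fun h => hw.2 (Subtype.ext h)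
  have hfw : f (w : V) = x • (w : V) := by
    have := congrArg Subtype.val hw.apply_eq_smul
    exact this
  refine ⟨x, Module.End.hasEigenvalue_of_hasEigenvector ⟨Module.End.mem_eigenspace_iff.2 hfw, hw0⟩, ?_⟩
  have hpow : ∀ j : ℕ, (f ^ j) (w : V) = x ^ j • (w : V) := by
    intro j
    induction j with
    | zero => simp
    | succ j ih => rw [pow_succ', Module.End.mul_apply, ih, map_smul, hfw, smul_smul, pow_succ]
  have hxm : x ^ (r * k) = 1 := by
    have h1 := hpow (r * k)
    rw [hm, Module.End.one_apply] at h1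
    have h2 : (x ^ (r * k) - 1) • (w : V) = 0 := by rw [sub_smul, one_smul, ← h1, sub_self]
    rcases smul_eq_zero.1 h2 with h3 | h3
    · exact sub_eq_zero.1 h3
    · exact absurd h3 hw0
  have hxk : x ^ k ≠ 1 := by
    intro h
    have hNw : N (w : V) = w := by rw [hN, hpow, h, one_smul]
    obtain ⟨u, hu⟩ := w.2
    have hNu : N u = u + w := by
      rw [← hu, LinearMap.sub_apply, Module.End.one_apply]
      abel
    have hNj : ∀ j : ℕ, (N ^ j) u = u + (j : K) • (w : V) := by
      intro j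
      induction j with
      | zero => simp
      | succ j ih =>
        rw [pow_succ', Module.End.mul_apply, ih, map_add, map_smul, hNu, hNw, Nat.cast_succ, add_smul, one_smul]
        abel
    have h1 := hNj r
    rw [hN, ← pow_mul, mul_comm k r, hm, Module.End.one_apply] at h1
    have h2 : (r : K) • (w : V) = 0 := by
      have h3 : u + (r : K) • (w : V) = u + 0 := by rw [← h1, add_zero]
      exact add_left_cancel h3
    rcases smul_eq_zero.1 h2 with h3 | h3
    · exact hrK h3
    · exact hw0 h3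
  by_contra hcon
  have h1 : orderOf x ∣ r * k := orderOf_dvd_of_pow_eq_one hxm
  have h2 : Nat.Coprime (orderOf x) r := ((Nat.Prime.coprime_iff_not_dvd hr).2 hcon).symm
  exact hxk (orderOf_dvd_iff_pow_eq_one.1 (h2.dvd_of_dvd_mul_left h1))

end Eig

section Unit

open Matrix

variable {F : Type*} [Field F]

theorem slToMat_apply {D : ℕ} (g : Matrix.SpecialLinearGroup (Fin D) F) : slToMat D F g = (g : Matrix (Fin D) (Fin D) F) :=
  rfl

/-- the matrix identity for a unitary matrix -/
theorem transpose_mul {D q : ℕ} (g : SU D F q) (θ : F →+* F) (hθ : ∀ x, θ x = x ^ q) :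
    ((g : Matrix.SpecialLinearGroup (Fin D) F) : Matrix (Fin D) (Fin D) F)ᵀ *
      ((g : Matrix.SpecialLinearGroup (Fin D) F) : Matrix (Fin D) (Fin D) F).map θ = 1 := by
  set M : Matrix (Fin D) (Fin D) F := ((g : Matrix.SpecialLinearGroup (Fin D) F) : Matrix (Fin D) (Fin D) F) with hM
  have h0 : ∀ u v, hermForm D F q (M *ᵥ u) (M *ᵥ v) = hermForm D F q u v := fun u v => g.2 u v
  ext i j
  have h1 := h0 (Pi.single i 1) (Pi.single j 1)
  rw [mulVec_single_one, mulVec_single_one] at h1
  rw [Matrix.mul_apply]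
  have h2 : ∑ k, Mᵀ i k * M.map θ k j = hermForm D F q (M.col i) (M.col j) := by
    refine Finset.sum_congr rfl fun k _ => ?_
    rw [Matrix.transpose_apply, Matrix.map_apply, hθ]
    rfl
  rw [h2, h1]
  have hq : ∀ k, (Pi.single j (1 : F) : Fin D → F) k ^ q = θ ((Pi.single j (1 : F) : Fin D → F) k) := fun k => (hθ _).symm
  rw [hermForm, Matrix.one_apply, Finset.sum_eq_single i]
  · rw [hq, Pi.single_eq_same, one_mul, Pi.single_apply]
    split_ifs with h
    · rw [map_one]
    · rw [map_zero]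
  · intro b _ hb
    rw [Pi.single_eq_of_ne hb, zero_mul]
  · intro h
    exact absurd (Finset.mem_univ _) h

variable {K : Type*} [Field K]

/-- the eigenvalues of a unitary matrix are permuted by `x ↦ x^(-q)` -/
theorem eig_closed {D q : ℕ} {M : Matrix (Fin D) (Fin D) K} (Θ : K →+* K) (hΘ : ∀ x, Θ x = x ^ q)
    (hM : Mᵀ * M.map Θ = 1) {x : K} (hx : M.charpoly.IsRoot x) : x ≠ 0 ∧ M.charpoly.IsRoot ((x ^ q)⁻¹) := by
  have h1 : (M.map Θ).charpoly.IsRoot (Θ x) := by
    rw [Matrix.charpoly_map]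
    exact hx.map
  rw [← Matrix.charpoly_toLin', ← Module.End.hasEigenvalue_iff_isRoot_charpoly] at h1
  obtain ⟨v, hv⟩ := h1.exists_hasEigenvector
  have h2 : (M.map Θ) *ᵥ v = Θ x • v := hv.apply_eq_smul
  have h3 : v = Θ x • (Mᵀ *ᵥ v) := by
    have h4 : Mᵀ *ᵥ ((M.map Θ) *ᵥ v) = v := by rw [mulVec_mulVec, hM, one_mulVec]
    rw [h2, mulVec_smul] at h4
    exact h4.symm
  have hx0 : Θ x ≠ 0 := by
    intro h
    rw [h, zero_smul] at h3
    exact hv.2 h3
  have hx1 : x ≠ 0 := by
    rintro rfl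
    exact hx0 (map_zero Θ)
  refine ⟨hx1, ?_⟩
  rw [← Matrix.charpoly_transpose, ← Matrix.charpoly_toLin', ← Module.End.hasEigenvalue_iff_isRoot_charpoly, ← hΘ]
  refine Module.End.hasEigenvalue_of_hasEigenvector (x := v) ⟨Module.End.mem_eigenspace_iff.2 ?_, hv.2⟩
  rw [Matrix.toLin'_apply]
  calc Mᵀ *ᵥ v = (Θ x)⁻¹ • (Θ x • (Mᵀ *ᵥ v)) := by rw [smul_smul, inv_mul_cancel₀ hx0, one_smul]
    _ = (Θ x)⁻¹ • v := by rw [← h3]

/-- the period of `x` under `x ↦ x^(-q)` -/
theorem nu_dvd {q r n : ℕ} {x : K} (hx0 : x ≠ 0) (hr : r ∣ orderOf x) (h : x ^ ((-(q : ℤ)) ^ n) = x) : nu q r ∣ n := by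
  have h1 : x ^ ((-(q : ℤ)) ^ n - 1) = 1 := by
    rw [zpow_sub₀ hx0, h, zpow_one, div_self hx0]
  have h2 : (orderOf x : ℤ) ∣ (-(q : ℤ)) ^ n - 1 := by
    have h3 : (Units.mk0 x hx0) ^ ((-(q : ℤ)) ^ n - 1) = 1 := by
      apply Units.ext
      rw [Units.val_zpow_eq_zpow_val, Units.val_mk0, h1, Units.val_one]
    have h4 := orderOf_dvd_iff_zpow_eq_one.2 h3
    rwa [← orderOf_units, Units.val_mk0] at h4
  have h3 : (r : ℤ) ∣ (-(q : ℤ)) ^ n - 1 := (Int.natCast_dvd_natCast.2 hr).trans h2
  have h4 : (((-(q : ℤ)) ^ n - 1 : ℤ) : ZMod r) = 0 := (ZMod.intCast_zmod_eq_zero_iff_dvd _ r).2 h3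
  rw [nu]
  apply orderOf_dvd_of_pow_eq_one
  push_cast at h4
  exact sub_eq_zero.1 h4

end Unit

set_option linter.unusedVariables false in
open Matrix in
/-- **The unitary linear lemma.** -/
theorem ulin {F : Type*} [Field F] [Fintype F] {D q : ℕ} (hF : Fintype.card F = q ^ 2) (hD : 1 ≤ D) (g : SU D F q)
    {A : Finset ℕ} {c : ℕ} (hc : 1 ≤ c) (hA : ∀ r ∈ A, r.Prime ∧ r ≠ 2 ∧ ¬ r ∣ q ∧ r ∣ orderOf g)
    (hinj : Set.InjOn (nu q) (A : Set ℕ)) (hbig : ∀ r ∈ A, D < c * nu q r) : A.card < c := by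
  classical
  -- the characteristic
  obtain ⟨p, hp⟩ := CharP.exists F
  have hpp : Fact p.Prime := ⟨CharP.char_is_prime F p⟩
  obtain ⟨⟨m, hm⟩, -, hcard⟩ := FiniteField.card F p
  obtain ⟨n, -, hn⟩ : ∃ n ≤ m, q = p ^ n := by
    refine (Nat.dvd_prime_pow hpp.out).1 ?_
    have h1 : q ∣ q ^ 2 := dvd_pow_self q (by norm_num)
    rw [← hF, hcard] at h1
    exact h1
  let K := AlgebraicClosure F
  have hpK : CharP K p := charP_of_injective_algebraMap (algebraMap F K).injective p
  let θ : F →+* F := iterateFrobenius F p n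
  have hθ : ∀ x, θ x = x ^ q := fun x => by rw [hn]; rfl
  let Θ : K →+* K := iterateFrobenius K p n
  have hΘ : ∀ x, Θ x = x ^ q := fun x => by rw [hn]; rfl
  let M₀ : Matrix (Fin D) (Fin D) F := ((g : Matrix.SpecialLinearGroup (Fin D) F) : Matrix (Fin D) (Fin D) F)
  let M : Matrix (Fin D) (Fin D) K := M₀.map (algebraMap F K)
  have hM : Mᵀ * M.map Θ = 1 := by
    have h1 := congrArg (fun X : Matrix (Fin D) (Fin D) F => X.map (algebraMap F K)) (transpose_mul g θ hθ)
    simp only [Matrix.map_mul] at h1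
    rw [Matrix.map_one _ (map_zero _) (map_one _)] at h1
    have h2 : (M₀.map θ).map (algebraMap F K) = M.map Θ := by
      ext i j
      change algebraMap F K (θ (M₀ i j)) = Θ (algebraMap F K (M₀ i j))
      rw [hθ, hΘ, map_pow]
    rw [h2] at h1
    exact h1
  -- the permutation of the eigenvalues
  let S : Finset K := M.charpoly.roots.toFinset
  have hS : ∀ x, x ∈ S ↔ M.charpoly.IsRoot x := by
    intro x
    rw [Multiset.mem_toFinset, Polynomial.mem_roots (Matrix.charpoly_monic M).ne_zero]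
  have hSc : Fintype.card S ≤ D := by
    rw [Fintype.card_coe]
    refine (Multiset.toFinset_card_le _).trans ((Polynomial.card_roots' _).trans ?_)
    rw [Matrix.charpoly_natDegree_eq_dim, Fintype.card_fin]
  have hφ : ∀ x : S, ((x : K) ^ q)⁻¹ ∈ S := fun x => (hS _).2 (eig_closed Θ hΘ hM ((hS _).1 x.2)).2
  let φ : S → S := fun x => ⟨((x : K) ^ q)⁻¹, hφ x⟩
  have hφinj : Function.Injective φ := by
    intro x y hxy
    have h1 : ((x : K) ^ q)⁻¹ = ((y : K) ^ q)⁻¹ := congrArg Subtype.val hxy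
    have h2 := inv_injective h1
    rw [← hΘ, ← hΘ] at h2
    exact Subtype.ext (Θ.injective h2)
  let σ : Equiv.Perm S := Equiv.ofBijective φ (Finite.injective_iff_bijective.1 hφinj)
  have hiter : ∀ (n : ℕ) (x : S), ((σ^[n] x : S) : K) = (x : K) ^ ((-(q : ℤ)) ^ n) := by
    intro n x
    induction n with
    | zero => simp
    | succ n ih =>
      rw [Function.iterate_succ_apply']
      change (((σ^[n] x : S) : K) ^ q)⁻¹ = _
      rw [ih, pow_succ, _root_.zpow_mul, _root_.zpow_neg, _root_.zpow_natCast]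
  refine orbit_count σ hSc hc hinj (fun r hr => ?_) hbig
  obtain ⟨hrp, -, hrq, hrg⟩ := hA r hr
  -- an eigenvalue of order divisible by `r`
  have hrp' : r ≠ p := by
    rintro rfl
    rcases Nat.eq_zero_or_pos n with rfl | hn0
    · rw [hn, pow_zero] at hF
      have h1 := Fintype.one_lt_card (α := F)
      rw [hF] at h1
      omega
    · exact hrq (hn ▸ dvd_pow_self r hn0.ne')
  have hrK : (r : K) ≠ 0 := by
    rw [Ne, CharP.cast_eq_zero_iff K p]
    intro h
    exact hrp' ((Nat.prime_dvd_prime_iff_eq hpp.out hrp).1 h).symm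
  have hgo : 0 < orderOf g := orderOf_pos g
  let ψ : SU D F q →* Module.End K (Fin D → K) :=
    { toFun := fun h => Matrix.toLin' ((((h : Matrix.SpecialLinearGroup (Fin D) F) :
        Matrix (Fin D) (Fin D) F)).map (algebraMap F K))
      map_one' := by
        rw [Subgroup.coe_one, Matrix.SpecialLinearGroup.coe_one, Matrix.map_one _ (map_zero _) (map_one _),
          Matrix.toLin'_one]
        rfl
      map_mul' := fun a b => by
        rw [Subgroup.coe_mul, Matrix.SpecialLinearGroup.coe_mul, Matrix.map_mul, Matrix.toLin'_mul]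
        rfl }
  have hψ : Function.Injective ψ := by
    intro a b hab
    have h1 := Matrix.toLin'.injective hab
    apply Subtype.ext
    apply Subtype.ext
    exact Matrix.map_injective (algebraMap F K).injective h1
  have hf : ψ g = Matrix.toLin' M := rfl
  obtain ⟨x, hx, hrx⟩ := exists_eig (ψ g) (m := orderOf g) hrp hrK (by rw [← map_pow, pow_orderOf_eq_one, map_one]) hrg
    (by
      rw [← map_pow, ← map_one ψ]
      intro h
      have h1 := hψ h
      have h2 := orderOf_dvd_of_pow_eq_one h1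
      have h3 := Nat.le_of_dvd (Nat.div_pos (Nat.le_of_dvd hgo hrg) hrp.pos) h2
      have h4 := Nat.div_lt_self hgo hrp.one_lt
      omega)
  rw [hf, Module.End.hasEigenvalue_iff_isRoot_charpoly, Matrix.charpoly_toLin'] at hx
  refine ⟨⟨x, (hS x).2 hx⟩, ?_⟩
  refine nu_dvd (eig_closed Θ hΘ hM hx).1 hrx ?_
  rw [← hiter _ ⟨x, (hS x).2 hx⟩, Function.iterate_minimalPeriod]

end Cfsg.Agent.H71.Ulin
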