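import Cfsg.Agent.H370.DP.Def2
import Cfsg.Agent.H161.OuterGraph

/-!
# Outer automorphisms of `PSL_n(2)`, `n = 2^l` (task 1355, project S3624)

`exists_b` : a matrix `b` over the field with two elements such that `b b^{-T}` permutes `n` vectors cyclically;
`outer_two` : the coset of an outer automorphism of `PSL_{2^l}(2)` contains an element of order divisible by `2^(l+1)`.
-/

set_option autoImplicit false

namespace Cfsg.Agent.H71.OuterTwo

open Cfsg Cfsg.Agent.H370.DP Matrix
open Cfsg.Agent.ClassicalGeometry.AutPSL.Root Cfsg.Agent.ClassicalGeometry.AutPSL.Auto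
  Cfsg.Agent.ClassicalGeometry.AutPSL.Main Cfsg.Agent.H161.OuterGraph

section Vec

variable {F : Type*} [Field F] {n : ℕ}

/-- the matrix -/
def bm (n : ℕ) (F : Type*) [Field F] : Matrix (Fin n) (Fin n) F :=
  Matrix.of fun i j => if i = j ∨ (i.val < j.val ∧ j.val + 1 < n) then 1 else 0

/-- the sum -/
def sv (n : ℕ) (F : Type*) [Field F] : Fin n → F := fun x => if x.val + 1 < n then 1 else 0

theorem bm_apply (i j : Fin n) : bm n F i j = if i = j ∨ (i.val < j.val ∧ j.val + 1 < n) then 1 else 0 := rfl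

theorem det_bm : (bm n F).det = 1 := by
  rw [Matrix.det_of_upperTriangular]
  · refine Finset.prod_eq_one fun i _ => ?_
    rw [bm_apply, if_pos (Or.inl rfl)]
  · intro i j hij
    rw [bm_apply, if_neg]
    rintro (h | h)
    · rw [h] at hij
      exact lt_irrefl _ hij
    · exact absurd hij (not_lt.2 (Fin.le_def.2 h.1.le))

variable (h2 : (2 : F) = 0)

include h2 in
theorem two_add : (1 : F) + 1 = 0 := by rw [one_add_one_eq_two, h2]

include h2 in
theorem step_a {j : ℕ} (hj : j + 2 < n) :
    bm n F *ᵥ (Pi.single ⟨j, by omega⟩ 1 + Pi.single ⟨j + 1, by omega⟩ 1) = Pi.single ⟨j + 1, by omega⟩ 1 ∧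
    (bm n F)ᵀ *ᵥ (Pi.single ⟨j, by omega⟩ 1 + Pi.single ⟨j + 1, by omega⟩ 1) = Pi.single ⟨j, by omega⟩ 1 := by
  have h11 := two_add h2
  constructor
  · rw [mulVec_add, mulVec_single_one, mulVec_single_one]
    ext i
    rw [Pi.add_apply, Matrix.col_apply, Matrix.col_apply, bm_apply, bm_apply, Pi.single_apply]
    simp only [Fin.ext_iff]
    rcases lt_trichotomy i.val j with h | h | h
    · rw [if_pos (by omega), if_pos (by omega), if_neg (by omega), h11]
    · rw [if_pos (by omega), if_pos (by omega), if_neg (by omega), h11]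
    · rcases Nat.lt_or_ge (j + 1) i.val with h' | h'
      · rw [if_neg (by omega), if_neg (by omega), if_neg (by omega), add_zero]
      · rw [if_neg (by omega), if_pos (by omega), if_pos (by omega), zero_add]
  · rw [mulVec_add, mulVec_single_one, mulVec_single_one]
    ext i
    rw [Pi.add_apply, Matrix.col_apply, Matrix.col_apply, Matrix.transpose_apply, Matrix.transpose_apply, bm_apply,
      bm_apply, Pi.single_apply]
    simp only [Fin.ext_iff]
    have hi := i.2
    rcases lt_trichotomy i.val j with h | h | h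
    · rw [if_neg (by omega), if_neg (by omega), if_neg (by omega), add_zero]
    · rw [if_pos (by omega), if_neg (by omega), if_pos (by omega), add_zero]
    · rcases Nat.lt_or_ge (i.val + 1) n with h' | h'
      · rw [if_pos (by omega), if_pos (by omega), if_neg (by omega), h11]
      · rw [if_neg (by omega), if_neg (by omega), if_neg (by omega), add_zero]

theorem step_b (hn : 2 ≤ n) :
    bm n F *ᵥ (Pi.single ⟨n - 2, by omega⟩ 1) = sv n F ∧
    (bm n F)ᵀ *ᵥ (Pi.single ⟨n - 2, by omega⟩ 1) = Pi.single ⟨n - 2, by omega⟩ 1 := by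
  constructor
  · rw [mulVec_single_one]
    ext i
    rw [Matrix.col_apply, bm_apply, sv]
    simp only [Fin.ext_iff]
    have hi := i.2
    rcases Nat.lt_or_ge (i.val + 1) n with h | h
    · rw [if_pos (by omega), if_pos h]
    · rw [if_neg (by omega), if_neg (by omega)]
  · rw [mulVec_single_one]
    ext i
    rw [Matrix.col_apply, Matrix.transpose_apply, bm_apply, Pi.single_apply]
    simp only [Fin.ext_iff]
    have hi := i.2
    rcases Nat.lt_trichotomy i.val (n - 2) with h | h | h
    · rw [if_neg (by omega), if_neg (by omega)]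
    · rw [if_pos (by omega), if_pos (by omega)]
    · rw [if_neg (by omega), if_neg (by omega)]

theorem step_c (hn : 2 ≤ n) :
    bm n F *ᵥ (Pi.single ⟨0, by omega⟩ 1) = Pi.single ⟨0, by omega⟩ 1 ∧
    (bm n F)ᵀ *ᵥ (Pi.single ⟨0, by omega⟩ 1) = sv n F := by
  constructor
  · rw [mulVec_single_one]
    ext i
    rw [Matrix.col_apply, bm_apply, Pi.single_apply]
    simp only [Fin.ext_iff]
    rcases Nat.eq_zero_or_pos i.val with h | h
    · rw [if_pos (by omega), if_pos (by omega)]
    · rw [if_neg (by omega), if_neg (by omega)]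
  · rw [mulVec_single_one]
    ext i
    rw [Matrix.col_apply, Matrix.transpose_apply, bm_apply, sv]
    simp only [Fin.ext_iff]
    rcases Nat.lt_or_ge (i.val + 1) n with h | h
    · rw [if_pos (by omega), if_pos h]
    · rw [if_neg (by omega), if_neg (by omega)]

include h2 in
/-- **The matrix.** -/
theorem exists_b (hn : 3 ≤ n) : ∃ b : Matrix.SpecialLinearGroup (Fin n) F, ∀ k : ℕ, (b * itr b) ^ k = 1 → n ∣ k := by
  let b : Matrix.SpecialLinearGroup (Fin n) F := ⟨bm n F, det_bm⟩
  have hb : (b : Matrix (Fin n) (Fin n) F) = bm n F := rfl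
  set c : Matrix (Fin n) (Fin n) F := ((b * itr b : Matrix.SpecialLinearGroup (Fin n) F) : Matrix (Fin n) (Fin n) F)
    with hc
  have key : ∀ u v w : Fin n → F, (bm n F)ᵀ *ᵥ u = v → bm n F *ᵥ u = w → c *ᵥ v = w := by
    intro u v w hv hw
    have h1 : ((b⁻¹ : Matrix.SpecialLinearGroup (Fin n) F) : Matrix (Fin n) (Fin n) F)ᵀ * (bm n F)ᵀ = 1 := by
      rw [← Matrix.transpose_mul, ← hb, ← Matrix.SpecialLinearGroup.coe_mul, mul_inv_cancel,
        Matrix.SpecialLinearGroup.coe_one, Matrix.transpose_one]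
    rw [hc, Matrix.SpecialLinearGroup.coe_mul, coe_itr, ← hv, mulVec_mulVec, mul_assoc, h1, mul_one, hb, hw]
  let e : ℕ → Fin n → F := fun j => if h : j + 1 < n then Pi.single ⟨j, by omega⟩ 1 else sv n F
  have he : ∀ j (h : j + 1 < n), e j = Pi.single ⟨j, by omega⟩ 1 := fun j h => dif_pos h
  have he' : e (n - 1) = sv n F := dif_neg (by omega)
  have hstep : ∀ j, j + 1 < n → c *ᵥ e j = e (j + 1) := by
    intro j hj
    rcases Nat.lt_or_ge (j + 2) n with h | h
    · rw [he j hj, he (j + 1) h]
      exact key _ _ _ (step_a h2 h).2 (step_a h2 h).1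
    · have hj' : j = n - 2 := by omega
      subst hj'
      have h3 : n - 2 + 1 = n - 1 := by omega
      rw [he _ hj, h3, he']
      exact key _ _ _ (step_b (by omega)).2 (step_b (by omega)).1
  have hlast : c *ᵥ e (n - 1) = e 0 := by
    rw [he', he 0 (by omega)]
    exact key _ _ _ (step_c (by omega)).2 (step_c (by omega)).1
  have hpow : ∀ j, j < n → (c ^ j) *ᵥ e 0 = e j := by
    intro j
    induction j with
    | zero => intro _; rw [pow_zero, one_mulVec]
    | succ j ih =>
      intro hj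
      rw [pow_succ', ← mulVec_mulVec, ih (by omega), hstep j hj]
  have hn' : (c ^ n) *ᵥ e 0 = e 0 := by
    have h1 : c ^ n = c ^ (n - 1 + 1) := by
      congr 1
      omega
    rw [h1, pow_succ', ← mulVec_mulVec, hpow _ (by omega), hlast]
  have hmul : ∀ a : ℕ, (c ^ (n * a)) *ᵥ e 0 = e 0 := by
    intro a
    induction a with
    | zero => rw [mul_zero, pow_zero, one_mulVec]
    | succ a ih => rw [Nat.mul_succ, pow_add, ← mulVec_mulVec, hn', ih]
  refine ⟨b, fun k hk => ?_⟩
  have hck : c ^ k = 1 := by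
    rw [hc, ← Matrix.SpecialLinearGroup.coe_pow, hk, Matrix.SpecialLinearGroup.coe_one]
  have h1 : e (k % n) = e 0 := by
    have h3 := hpow (k % n) (Nat.mod_lt _ (by omega))
    rw [← h3]
    have h4 : (c ^ k) *ᵥ e 0 = e 0 := by rw [hck, one_mulVec]
    have h5 : k = k % n + n * (k / n) := (Nat.mod_add_div k n).symm
    rw [h5, pow_add, ← mulVec_mulVec, hmul] at h4
    exact h4
  have hr := Nat.mod_lt k (show 0 < n by omega)
  by_contra hcon
  have hr0 : k % n ≠ 0 := fun h => hcon (Nat.dvd_of_mod_eq_zero h)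
  rcases Nat.lt_or_ge (k % n + 1) n with h | h
  · rw [he _ h, he 0 (by omega)] at h1
    have h3 := congrFun h1 ⟨0, by omega⟩
    rw [Pi.single_apply, Pi.single_apply, if_neg, if_pos rfl] at h3
    · exact zero_ne_one h3
    · intro h4
      exact hr0 (congrArg Fin.val h4).symm
  · have h3 : k % n = n - 1 := by omega
    rw [h3, he', he 0 (by omega)] at h1
    have h4 := congrFun h1 ⟨1, by omega⟩
    rw [sv, Pi.single_apply, if_pos (show 1 + 1 < n by omega), if_neg] at h4
    · exact one_ne_zero h4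
    · intro h5
      exact one_ne_zero (congrArg Fin.val h5)

end Vec

theorem outer_two {F : Type*} [Field F] [Fintype F] (hF : Fintype.card F = 2) {l : ℕ} (hl : 2 ≤ l)
    (α : MulAut (PL F (2 ^ l))) (hα : ∀ g, α ≠ MulAut.conj g) : ∃ g, 2 ^ (l + 1) ∣ orderOf (MulAut.conj g * α) := by
  classical
  have h4 : 4 ≤ 2 ^ l := by
    calc 4 = 2 ^ 2 := by norm_num
      _ ≤ 2 ^ l := Nat.pow_le_pow_right (by norm_num) hl
  have h20 : (2 : F) = 0 := by
    have h1 : ((Fintype.card F : ℕ) : F) = 0 := FiniteField.cast_card_eq_zero F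
    rw [hF] at h1
    exact_mod_cast h1
  obtain ⟨p, hp⟩ := CharP.exists F
  have hpf : Fact p.Prime := ⟨CharP.char_is_prime F p⟩
  -- `α` is an inner automorphism times the inverse transpose
  obtain ⟨g₀, hg₀⟩ : ∃ g₀ : PL F (2 ^ l), α = MulAut.conj g₀ * lift itr := by
    rcases surj_three p (by omega : 3 ≤ 2 ^ l) α with ⟨B, σ, hB⟩ | ⟨B, σ, hB⟩
    · exfalso
      rw [fld_eq_one hF σ, map_one, mul_one] at hB
      obtain ⟨g, hg⟩ := lift_cj_inner hF B
      exact hα g (by rw [hB, hg])
    · rw [fld_eq_one hF σ, map_one, mul_one] at hB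
      obtain ⟨g, hg⟩ := lift_cj_inner hF B
      exact ⟨g, by rw [hB, map_mul, hg]⟩
  obtain ⟨b, hb⟩ := exists_b (F := F) (n := 2 ^ l) h20 (by omega)
  refine ⟨pr b * g₀⁻¹, ?_⟩
  have h1 : MulAut.conj (pr b * g₀⁻¹) * α = MulAut.conj (pr b) * lift itr := by
    rw [hg₀, ← mul_assoc, ← map_mul, inv_mul_cancel_right]
  rw [h1]
  set x : MulAut (PL F (2 ^ l)) := MulAut.conj (pr b) * lift itr with hx
  have hconj : ∀ y : PL F (2 ^ l), lift (itr : MulAut (Matrix.SpecialLinearGroup (Fin (2 ^ l)) F)) * MulAut.conj y =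
      MulAut.conj (lift itr y) * lift itr := by
    intro y
    apply MulEquiv.ext
    intro z
    rw [MulAut.mul_apply, MulAut.mul_apply, MulAut.conj_apply, MulAut.conj_apply, map_mul, map_mul, map_inv]
  have hx2 : x ^ 2 = MulAut.conj (pr (b * itr b)) := by
    have h3 : (lift (itr : MulAut (Matrix.SpecialLinearGroup (Fin (2 ^ l)) F))) * lift itr = 1 := by
      rw [← map_mul, itr_mul_itr, map_one]
    rw [pow_two, hx]
    calc MulAut.conj (pr b) * lift itr * (MulAut.conj (pr b) * lift itr)
        = MulAut.conj (pr b) * (lift itr * MulAut.conj (pr b)) * lift itr := by simp only [mul_assoc]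
      _ = MulAut.conj (pr b) * MulAut.conj (lift itr (pr b)) * (lift itr * lift itr) := by
          rw [hconj]; simp only [mul_assoc]
      _ = _ := by rw [h3, mul_one, lift_pr, ← map_mul, ← map_mul]
  -- the kernel of `conj ∘ pr`
  have hker : ∀ y : Matrix.SpecialLinearGroup (Fin (2 ^ l)) F, MulAut.conj (pr y) = 1 → y = 1 := by
    intro y hy
    have h3 : ∀ z : Matrix.SpecialLinearGroup (Fin (2 ^ l)) F, y * z = z * y := by
      intro z
      have h5 : pr y * pr z * (pr y)⁻¹ = pr z := by
        rw [← MulAut.conj_apply, hy, MulAut.one_apply]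
      apply pr_injective hF h4
      rw [map_mul, map_mul]
      exact mul_inv_eq_iff_eq_mul.1 h5
    have h5 : y ∈ Subgroup.center (Matrix.SpecialLinearGroup (Fin (2 ^ l)) F) :=
      Subgroup.mem_center_iff.2 fun z => (h3 z).symm
    apply pr_injective hF h4
    rw [map_one, pr_eq_one_iff]
    exact h5
  have hdvd : 2 ^ l ∣ orderOf (x ^ 2) := by
    apply hb
    apply hker
    rw [map_pow, map_pow, ← hx2, pow_orderOf_eq_one]
  have heven : Even (orderOf x) := by
    by_contra hodd
    rw [Nat.not_even_iff_odd] at hodd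
    have h5 : orderOf (x ^ 2) ∣ orderOf x := orderOf_pow_dvd 2
    have h6 : 2 ∣ orderOf x := (dvd_pow_self 2 (by omega)).trans (hdvd.trans h5)
    exact absurd (even_iff_two_dvd.2 h6) (Nat.not_even_iff_odd.2 hodd)
  obtain ⟨k, hk⟩ := heven
  rcases Nat.eq_zero_or_pos k with rfl | hk0
  · rw [hk]
    exact dvd_zero _
  have h5 : orderOf (x ^ 2) = k := by
    rw [orderOf_pow' x (by norm_num), hk, ← two_mul, Nat.gcd_mul_right_left, Nat.mul_div_cancel_left _ (by norm_num)]
  rw [h5] at hdvd
  rw [hk, ← two_mul, pow_succ, mul_comm (2 ^ l) 2]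
  exact Nat.mul_dvd_mul_left 2 hdvd

end Cfsg.Agent.H71.OuterTwo
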