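import Cfsg.Agent.H71.BddRee
import Cfsg.Agent.H967.CopTw
import Cfsg.Agent.H531.RealMove
import Cfsg.Agent.H531.RMChev
import Cfsg.Agent.H531.RMSub

/-!
# Automorphisms of `³D₄(q)` with few fixed points

(For S3291, task 223 of helper331.)
-/

set_option autoImplicit false
set_option linter.unusedSectionVars false

namespace Cfsg.Agent.H71.BddTwD4

open Cfsg.Lie Cfsg.Agent.H331.BF Cfsg.Agent.H71.BfTorus Cfsg.Agent.H71.BfTwist Cfsg.Agent.H71.BddRee
open Cfsg.Agent.H967.CopSz Cfsg.Agent.H967.CopMat Cfsg.Agent.H967.CopTw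

/-! ### General lemmas -/

section gen

theorem aut_of_inn {T : Type*} [Group T] {K : Type*} [Field K] [Finite K] (Φ : (K ≃+* K) →* MulAut T)
    (hinn : ∀ τ g, Φ τ = MulAut.conj g → τ = 1) (hOut : Nat.card (Cfsg.Out T) = Nat.card (K ≃+* K))
    (α : MulAut T) : ∃ g τ, α = MulAut.conj g * Φ τ := by
  have hfin : Finite (K ≃+* K) := Finite.of_injective (fun f : K ≃+* K => (f : K → K)) DFunLike.coe_injective
  let f : (K ≃+* K) →* Cfsg.Out T := (QuotientGroup.mk' (Cfsg.Inn T)).comp Φ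
  have hfO : Finite (Cfsg.Out T) := Nat.finite_of_card_ne_zero (by rw [hOut]; exact Nat.card_pos.ne')
  have hinj : Function.Injective f := by
    rw [injective_iff_map_eq_one]
    intro τ hτ
    have h1 : Φ τ ∈ Cfsg.Inn T := (QuotientGroup.eq_one_iff _).1 hτ
    obtain ⟨g, hg⟩ := h1
    exact hinn τ g hg.symm
  have hs : Function.Surjective f := ((Nat.bijective_iff_injective_and_card f).2 ⟨hinj, hOut.symm⟩).2
  obtain ⟨τ, hτ⟩ := hs (QuotientGroup.mk' (Cfsg.Inn T) α)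
  have h1 : (Φ τ)⁻¹ * α ∈ Cfsg.Inn T := QuotientGroup.eq.1 hτ
  obtain ⟨g, hg⟩ := h1
  refine ⟨Φ τ g, τ, ?_⟩
  have h2 : α = Φ τ * MulAut.conj g := by rw [hg, mul_inv_cancel_left]
  rw [h2]
  ext x
  simp [MulAut.mul_apply, MulAut.conj_apply]

variable {T : Type*} [Group T] [Finite T] {K : Type*} [Field K] {ι : Type*} [Fintype ι] [DecidableEq ι]

/-- **The bound for the number of parameters**, general form. -/
theorem card_le_gen (ρ : T →* Matrix ι ι K) (hρ : Function.Injective ρ) (hcen : ∀ g : T, MulAut.conj g = 1 → g = 1)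
    {α : MulAut T} {n k D C : ℕ} (hα : α ^ n = 1) (hk : Nat.card {x : T // α x = x} ≤ k)
    (S : Finset K) (h0 : (0 : K) ∈ S) {g : T} {α' : MulAut T} (hg : α = MulAut.conj g * α')
    (hex : C < S.card → ∃ t : T, α' t = t ∧ t ^ n ≠ 1)
    {I : Type*} (x : I → K → T) (hx0 : ∀ i, x i 0 = 1)
    (hgen : Subgroup.closure {g | ∃ i, ∃ s ∈ S, x i s = g} = ⊤)
    (hpoly : ∀ i, ∀ j < n, PolyMat S D (fun s => ρ ((α ^ j) (x i s)))) :
    S.card ≤ C + k * (((Fintype.card ι * Fintype.card ι) ^ n + 1) * (n * D)) := by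
  by_cases hS : S.card ≤ C
  · exact hS.trans (Nat.le_add_right _ _)
  · push Not at hS
    refine le_trans ?_ (Nat.le_add_left _ _)
    refine bound_faithful ρ hρ α hα hk S h0 x hx0 hgen (fun i j hj a b => hpoly i j hj a b) ?_
    obtain ⟨t, ht, htn⟩ := hex hS
    by_contra hcon
    push Not at hcon
    have h1 : ∀ g1 : T, (MulAut.conj g1 * α) ^ n = 1 := by
      intro g1
      rw [conj_mul_pow, hcon, map_one, hα, one_mul]
    have h2 : α' ^ n = 1 := by
      have := h1 g⁻¹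
      rwa [hg, ← mul_assoc, ← map_mul, inv_mul_cancel, map_one, one_mul] at this
    have h3 : (MulAut.conj t * α') ^ n = 1 := by
      have := h1 (t * g⁻¹)
      rwa [hg, ← mul_assoc, ← map_mul, inv_mul_cancel_right] at this
    rw [conj_mul_pow, h2, mul_one, nm_fixed ht] at h3
    exact htn (hcen _ h3)

/-- two commuting automorphisms of a finite field -/
theorem card_le_two [Finite K] (σ₁ σ₂ : K ≃+* K) {a b : ℕ} (ha : 0 < a) (hb : 0 < b) (h1 : σ₁ ^ a = 1)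
    (h2 : σ₂ ^ b = 1) (hc : ∀ t, σ₁ (σ₂ t) = σ₂ (σ₁ t)) :
    Nat.card K ≤ (Nat.card {t : K // σ₁ t = t ∧ σ₂ t = t}) ^ (a * b) := by
  have hm : ∀ t ∈ Fx σ₂, σ₁ t ∈ Fx σ₂ := by
    intro t ht
    rw [mem_Fx] at ht ⊢
    rw [← hc, ht]
  have hm' : ∀ t ∈ Fx σ₂, σ₁.symm t ∈ Fx σ₂ := by
    intro t ht
    rw [mem_Fx] at ht ⊢
    apply σ₁.injective
    rw [hc, σ₁.apply_symm_apply, ht]
  let σ : ↥(Fx σ₂) ≃+* ↥(Fx σ₂) :=
    { toFun := fun x => ⟨σ₁ x, hm x x.2⟩
      invFun := fun x => ⟨σ₁.symm x, hm' x x.2⟩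
      left_inv := fun x => Subtype.ext (σ₁.symm_apply_apply _)
      right_inv := fun x => Subtype.ext (σ₁.apply_symm_apply _)
      map_mul' := fun x y => Subtype.ext (map_mul _ _ _)
      map_add' := fun x y => Subtype.ext (map_add _ _ _) }
  have hp : ∀ (j : ℕ) (x : ↥(Fx σ₂)), (((σ ^ j) x : ↥(Fx σ₂)) : K) = (σ₁ ^ j) (x : K) := by
    intro j
    induction j with
    | zero => intro x; rfl
    | succ j ih =>
      intro x
      rw [pow_succ, RingAut.mul_apply, ih, pow_succ, RingAut.mul_apply]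
      rfl
  have hσ : σ ^ a = 1 := by
    ext x
    rw [hp, h1]
    rfl
  have e1 := card_le_fix_pow σ₂ hb h2
  have e2 := card_le_fix_pow σ ha hσ
  have e3 : Nat.card {t : ↥(Fx σ₂) // σ t = t} = Nat.card {t : K // σ₁ t = t ∧ σ₂ t = t} := by
    refine Nat.card_congr
      { toFun := fun x => ⟨x.1.1, congrArg Subtype.val x.2, x.1.2⟩
        invFun := fun x => ⟨⟨x.1, x.2.2⟩, Subtype.ext x.2.1⟩
        left_inv := fun x => rfl
        right_inv := fun x => rfl }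
  have e4 : Nat.card {t : K // σ₂ t = t} = Nat.card ↥(Fx σ₂) := rfl
  rw [e4] at e1
  rw [e3] at e2
  rw [pow_mul]
  exact e1.trans (Nat.pow_le_pow_left e2 _)

end gen

/-! ### `SL₂` of a root and the torus elements -/

section sl

open Cfsg.Agent.H531 Cfsg.Agent.ChevalleyStructure.SL2Hom

variable {ι : Type*} [Fintype ι] [DecidableEq ι] {K : Type*} [Field K] {G : Subgroup (Matrix.GeneralLinearGroup ι K)}

/-- torus elements fixed by a field automorphism -/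
theorem exists_fixed (hst : Stab G) (s : Matrix.SpecialLinearGroup (Fin 2) K →* Matrix.GeneralLinearGroup ι K)
    (τ : K ≃+* K) (S : Finset K) (hSτ : ∀ t ∈ S, τ t = t) (φ : K →+* K) (hSφ : ∀ t ∈ S, φ t = t)
    (hup : ∀ t : K, φ t = t → s (up t) ∈ G) (hlo : ∀ t : K, φ t = t → s (lo t) ∈ G)
    (eup : ∀ (τ : K ≃+* K) (t : K), Matrix.GeneralLinearGroup.map (τ : K →+* K) (s (up t)) = s (up (τ t)))
    (elo : ∀ (τ : K ≃+* K) (t : K), Matrix.GeneralLinearGroup.map (τ : K →+* K) (s (lo t)) = s (lo (τ t)))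
    (hinj : ∀ t : K, s (up t) = 1 → t = 0) {n : ℕ} (hn : 0 < n) (hS : 2 * n + 1 < S.card) :
    ∃ t : ↥G, fieldAut hst τ t = t ∧ t ^ n ≠ 1 := by
  obtain ⟨u, hu, hun⟩ := exists_unit (n := 2 * n) (by omega) hS
  have hu1 : φ (u : K) = u := hSφ _ hu
  have hu2 : φ (-(u : K)⁻¹) = -(u : K)⁻¹ := by rw [map_neg, map_inv₀, hu1]
  have hw : s (weylSL K) ∈ G := by
    rw [weylSL_eq, map_mul, map_mul]
    have h1 : φ (-1) = -1 := by rw [map_neg, map_one]
    exact mul_mem (mul_mem (hup 1 (map_one φ)) (hlo (-1) h1)) (hup 1 (map_one φ))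
  have hmem : s (diagSL K u) ∈ G := by
    rw [diagSL_eq, map_mul, map_mul, map_mul, map_inv]
    exact mul_mem (mul_mem (mul_mem (hup _ hu1) (hlo _ hu2)) (hup _ hu1)) (inv_mem hw)
  have hequiv : ∀ (g : Matrix.SpecialLinearGroup (Fin 2) K),
      Matrix.GeneralLinearGroup.map (τ : K →+* K) (s g) = s (Matrix.SpecialLinearGroup.map (τ : K →+* K) g) := by
    intro g
    have hg := mem_closure_SL2 g
    induction hg using Subgroup.closure_induction with
    | mem x hx =>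
      rcases hx with ⟨t, rfl⟩ | ⟨t, rfl⟩
      · rw [eup, map_up]
      · rw [elo, map_lo]
    | one => rw [map_one, map_one, map_one, map_one]
    | mul x y _ _ h1 h2 => rw [map_mul, map_mul, map_mul, map_mul, h1, h2]
    | inv x _ h1 => rw [map_inv, map_inv, map_inv, map_inv, h1]
  refine ⟨⟨s (diagSL K u), hmem⟩, ?_, ?_⟩
  · apply Subtype.ext
    rw [coe_fieldAut]
    show Matrix.GeneralLinearGroup.map (τ : K →+* K) (s (diagSL K u)) = s (diagSL K u)
    rw [hequiv, map_diagSL]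
    congr 2
    exact Units.ext (hSτ _ hu)
  · intro h
    have h1 : (s (diagSL K u)) ^ n = 1 := congrArg Subtype.val h
    rw [← map_pow, ← map_pow] at h1
    have h2 := sq_of_ker s hinj (u ^ n) h1
    apply hun
    rw [mul_comm, pow_mul, h2]

end sl

/-! ### `³D₄(q)` -/

section D4

universe u

open Cfsg.Agent.ChevalleyStructure Cfsg.Agent.ChevalleyStructure.Elts Cfsg.Agent.KFacts.TwDFour.Out
  Cfsg.Agent.H69.OutTwD4 Cfsg.Agent.H531.RMChev Cfsg.Agent.Nodes.RGDTwD4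

variable {K : Type u} [Field K] [Fintype K] {q : ℕ}

/-- field automorphisms of `³D₄(q)` are not inner -/
theorem inn_d4 (hq : IsPrimePow q) (hK : Fintype.card K = q ^ 3) (τ : K ≃+* K) (g : ↥(twistedD4 K q))
    (h : fieldAut (stab_d4 (K := K) q) τ = MulAut.conj g) : τ = 1 := by
  obtain ⟨φ, hφ⟩ := D4Fixed.exists_frob hq hK
  obtain ⟨p, hp⟩ := CharP.exists K
  have : Fact p.Prime := ⟨CharP.char_is_prime K p⟩
  let cs : CoxeterSystem CoxeterMatrix.G₂ CoxeterMatrix.G₂.Group := CoxeterMatrix.G₂.toCoxeterSystem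
  have hfin : Finite CoxeterMatrix.G₂.Group := finiteW cs
  have R := Cfsg.Agent.Nodes.RGDTwD4.rgd cs hK hφ p
  have hG1 := Cfsg.Agent.Nodes.RGDTwD4.G1_eq_top cs hK hφ
  have h1 := dtau_st hφ hK τ cs p
  have h2 : st q τ = MulAut.conj g := h
  rw [h2] at h1
  have h3 := Cfsg.Agent.H69.OutCount.mem_T_of_diag R hG1 h1.diag
  exact h1.unique hφ hK (dtau_conj hφ hK cs p h3)

theorem aut_d4 (hq : IsPrimePow q) (hK : Fintype.card K = q ^ 3) (α : MulAut ↥(twistedD4 K q)) :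
    ∃ (g : ↥(twistedD4 K q)) (τ : K ≃+* K), α = MulAut.conj g * fieldAut (stab_d4 (K := K) q) τ := by
  obtain ⟨p, hp⟩ := CharP.exists K
  have : Fact p.Prime := ⟨CharP.char_is_prime K p⟩
  exact aut_of_inn _ (inn_d4 hq hK) (card_out hq hK p) α

open Classical in
/-- the families -/
noncomputable def fam (q : ℕ) : ({r : ℕ // r ∈ [14, 9]} × {c : K // c ^ q = c}) ⊕
    ({rs : ℕ × ℕ × ℕ // rs ∈ [(18, 13, 12), (5, 10, 11)]} × K) → K → ↥(twistedD4 K q)
  | Sum.inl i => fun s => if h : (i.2.1 * s) ^ q = i.2.1 * s then ⟨xG hD4 i.1.1 (i.2.1 * s), single_mem h i.1.2⟩ else 1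
  | Sum.inr i => fun s => ⟨xG hD4 i.1.1.1 (i.2 * s) * (xG hD4 i.1.1.2.1 ((i.2 * s) ^ q) *
      xG hD4 i.1.1.2.2 ((i.2 * s) ^ (q ^ 2))), triple_mem (i.2 * s) i.1.2⟩

open Classical in
theorem fam_inl (i : {r : ℕ // r ∈ [14, 9]} × {c : K // c ^ q = c}) {s : K} (hs : s ^ q = s) :
    ((fam q (Sum.inl i) s : ↥(twistedD4 K q)) : GL chevD4.Idx K) = xG hD4 i.1.1 (i.2.1 * s) := by
  have h : (i.2.1 * s) ^ q = i.2.1 * s := by rw [mul_pow, i.2.2, hs]
  show (((if h : (i.2.1 * s) ^ q = i.2.1 * s then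
    (⟨xG hD4 i.1.1 (i.2.1 * s), single_mem h i.1.2⟩ : ↥(twistedD4 K q)) else 1) : ↥(twistedD4 K q)) :
      GL chevD4.Idx K) = _
  rw [dif_pos h]

theorem fam_inr (i : {rs : ℕ × ℕ × ℕ // rs ∈ [(18, 13, 12), (5, 10, 11)]} × K) {s : K} (hs : s ^ q = s) :
    ((fam q (Sum.inr i) s : ↥(twistedD4 K q)) : GL chevD4.Idx K) = xG hD4 i.1.1.1 (i.2 * s) *
      (xG hD4 i.1.1.2.1 (i.2 ^ q * s) * xG hD4 i.1.1.2.2 (i.2 ^ (q ^ 2) * s)) := by
  show xG hD4 i.1.1.1 (i.2 * s) * (xG hD4 i.1.1.2.1 ((i.2 * s) ^ q) *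
      xG hD4 i.1.1.2.2 ((i.2 * s) ^ (q ^ 2))) = _
  rw [mul_pow, mul_pow, hs, pow_two q, pow_mul s, hs, hs]

theorem fam_zero (i : ({r : ℕ // r ∈ [14, 9]} × {c : K // c ^ q = c}) ⊕
    ({rs : ℕ × ℕ × ℕ // rs ∈ [(18, 13, 12), (5, 10, 11)]} × K)) (hq : q ≠ 0) : fam q i 0 = 1 := by
  have h0 : (0 : K) ^ q = 0 := zero_pow hq
  apply Subtype.ext
  rcases i with i | i
  · rw [fam_inl i h0, mul_zero, xG_zero]
    rfl
  · rw [fam_inr i h0, mul_zero, mul_zero, mul_zero, xG_zero, xG_zero, xG_zero, mul_one, mul_one]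
    rfl

theorem closure_fam {S : Finset K} (h1 : (1 : K) ∈ S) :
    Subgroup.closure {g | ∃ i, ∃ s ∈ S, fam q i s = g} = (⊤ : Subgroup ↥(twistedD4 K q)) := by
  set L := Subgroup.closure {g | ∃ i, ∃ s ∈ S, fam q i s = g} with hL
  have h2 : twistedD4 K q ≤ L.map (Subgroup.subtype _) := by
    rw [tw_le_iff]
    constructor
    · intro t ht r hr
      refine ⟨fam q (Sum.inl (⟨r, hr⟩, ⟨t, ht⟩)) 1, Subgroup.subset_closure ⟨_, 1, h1, rfl⟩, ?_⟩
      show ((fam q (Sum.inl (⟨r, hr⟩, ⟨t, ht⟩)) 1 : ↥(twistedD4 K q)) : GL chevD4.Idx K) = _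
      rw [fam_inl _ (one_pow q), mul_one]
    · intro t rs hrs
      refine ⟨fam q (Sum.inr (⟨rs, hrs⟩, t)) 1, Subgroup.subset_closure ⟨_, 1, h1, rfl⟩, ?_⟩
      show ((fam q (Sum.inr (⟨rs, hrs⟩, t)) 1 : ↥(twistedD4 K q)) : GL chevD4.Idx K) = _
      rw [fam_inr _ (one_pow q), mul_one, mul_one, mul_one]
  rw [eq_top_iff]
  intro x _
  obtain ⟨y, hy, hxy⟩ := h2 x.2
  have : y = x := Subtype.ext hxy
  rwa [← this]

theorem fieldAut_fam (σ : K ≃+* K) {S : Finset K} (hS : ∀ s ∈ S, s ^ q = s) (hσ : ∀ s ∈ S, σ s = s)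
    (i : ({r : ℕ // r ∈ [14, 9]} × {c : K // c ^ q = c}) ⊕
    ({rs : ℕ × ℕ × ℕ // rs ∈ [(18, 13, 12), (5, 10, 11)]} × K)) :
    ∃ i', ∀ s ∈ S, fieldAut (stab_d4 (K := K) q) σ (fam q i s) = fam q i' s := by
  rcases i with ⟨r, c, hc⟩ | ⟨rs, c⟩
  · refine ⟨Sum.inl (r, ⟨σ c, by rw [← map_pow, hc]⟩), fun s hs => ?_⟩
    apply Subtype.ext
    rw [coe_fieldAut, fam_inl _ (hS s hs), fam_inl _ (hS s hs), map_xG, map_mul, hσ s hs]
  · refine ⟨Sum.inr (rs, σ c), fun s hs => ?_⟩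
    apply Subtype.ext
    rw [coe_fieldAut, fam_inr _ (hS s hs), fam_inr _ (hS s hs), map_mul, map_mul, map_xG, map_xG, map_xG, map_mul,
      map_mul, map_mul, hσ s hs, map_pow, map_pow]

theorem polyMat_fam {S : Finset K} (hS : ∀ s ∈ S, s ^ q = s)
    (i : ({r : ℕ // r ∈ [14, 9]} × {c : K // c ^ q = c}) ⊕
    ({rs : ℕ × ℕ × ℕ // rs ∈ [(18, 13, 12), (5, 10, 11)]} × K)) :
    PolyMat S (3 * cB chevD4) (fun s => rep (twistedD4 K q) (fam q i s)) := by
  have hl : ∀ c : K, PolyOn S 1 (fun s => c * s) := fun c => (PolyOn.id (le_refl 1)).smul c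
  rcases i with i | i
  · refine ((PolyMat.x chevD4 (hl i.2.1) i.1.1).mono (by omega)).congr fun s hs => ?_
    show (((fam q (Sum.inl i) s : ↥(twistedD4 K q)) : GL chevD4.Idx K) : Matrix chevD4.Idx chevD4.Idx K) = _
    rw [fam_inl i (hS s hs)]
    rfl
  · refine (((PolyMat.x chevD4 (hl i.2) i.1.1.1).mul ((PolyMat.x chevD4 (hl (i.2 ^ q)) i.1.1.2.1).mul
      (PolyMat.x chevD4 (hl (i.2 ^ (q ^ 2))) i.1.1.2.2))).mono (by omega)).congr fun s hs => ?_
    show (((fam q (Sum.inr i) s : ↥(twistedD4 K q)) : GL chevD4.Idx K) : Matrix chevD4.Idx chevD4.Idx K) = _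
    rw [fam_inr i (hS s hs)]
    rfl

/-- the constant -/
noncomputable def bdD (n k : ℕ) : ℕ :=
  ((2 * n + 1 + k * (((Fintype.card chevD4.Idx * Fintype.card chevD4.Idx) ^ n + 1) * (n * (3 * cB chevD4)))) ^
    (n * 3)) ^ (Fintype.card chevD4.Idx * Fintype.card chevD4.Idx)

theorem bdd_twD4_model {n : ℕ} (k : ℕ) (hn : 0 < n) (hq : IsPrimePow q) (hK : Fintype.card K = q ^ 3) :
    Bdd n k (bdD n k) ↥(twistedD4 K q) := by
  classical
  intro α hα hk
  have hq0 : q ≠ 0 := hq.ne_zero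
  have : Finite (Matrix chevD4.Idx chevD4.Idx K) := inferInstanceAs (Finite (chevD4.Idx → chevD4.Idx → K))
  have : Finite ↥(twistedD4 K q) := Finite.of_injective (rep _) (rep_injective (twistedD4 K q))
  obtain ⟨φ, hφ⟩ := D4Fixed.exists_frob hq hK
  obtain ⟨g, τ, hg⟩ := aut_d4 hq hK α
  have hρg : IsUnit (rep (twistedD4 K q) g) := ⟨⟨rep _ g, rep _ g⁻¹, by rw [← map_mul, mul_inv_cancel, map_one],
    by rw [← map_mul, inv_mul_cancel, map_one]⟩, rfl⟩
  -- `τ ^ n = 1`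
  have hτ : τ ^ n = 1 := by
    refine inn_d4 hq hK _ (Nm (fieldAut (stab_d4 (K := K) q) τ) n g)⁻¹ ?_
    rw [hg, conj_mul_pow] at hα
    rw [map_pow, map_inv]
    exact eq_inv_of_mul_eq_one_right hα
  -- the Frobenius automorphism of order 3
  obtain ⟨σ, hσ⟩ : ∃ σ : K ≃+* K, ∀ x, σ x = x ^ q :=
    ⟨RingEquiv.ofBijective φ (Finite.injective_iff_bijective.1 φ.injective), fun x => hφ x⟩
  have hσ3 : σ ^ 3 = 1 := by
    ext x
    have h1 : (σ ^ 3) x = σ (σ (σ x)) := rfl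
    rw [h1, hσ, hσ, hσ, ← pow_mul, ← pow_mul]
    have h2 : q * (q * q) = q ^ 3 := by ring
    rw [h2, ← hK, FiniteField.pow_card]
    rfl
  set S : Finset K := Finset.univ.filter fun t => τ t = t ∧ σ t = t with hS
  have hmem : ∀ s, s ∈ S ↔ τ s = s ∧ σ s = s := fun s => by rw [hS, Finset.mem_filter]; simp
  have hSq : ∀ s ∈ S, s ^ q = s := fun s hs => by rw [← hσ]; exact ((hmem s).1 hs).2
  have hSτ : ∀ s ∈ S, τ s = s := fun s hs => ((hmem s).1 hs).1
  have hK1 : Nat.card K ≤ S.card ^ (n * 3) := by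
    have h1 := card_le_two τ σ hn (by norm_num : 0 < 3) hτ hσ3 (fun t => by rw [hσ, hσ, map_pow])
    rwa [Nat.card_eq_fintype_card (α := {t : K // τ t = t ∧ σ t = t}), Fintype.card_subtype] at h1
  have h1 : S.card ≤ 2 * n + 1 + k * (((Fintype.card chevD4.Idx * Fintype.card chevD4.Idx) ^ n + 1) *
      (n * (3 * cB chevD4))) := by
    refine card_le_gen (rep (twistedD4 K q)) (rep_injective _) (cen_of_simple (S1071.result hq hK)) hα hk S
      ((hmem 0).2 ⟨map_zero τ, map_zero σ⟩) hg ?_ (fam q) (fun i => fam_zero i hq0)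
      (closure_fam ((hmem 1).2 ⟨map_one τ, map_one σ⟩)) ?_
    · intro hc
      have hup : ∀ t : K, SL2Hom.phi (SL2All.good_of_mem chevD4 hD4 14 (by decide)) K (SL2Hom.up t) = xG hD4 14 t :=
        fun t => Units.ext (SL2Hom.phi_upper _ _ t rfl)
      have hlo : ∀ t : K, SL2Hom.phi (SL2All.good_of_mem chevD4 hD4 14 (by decide)) K (SL2Hom.lo t) = xG hD4 9 t :=
        fun t => Units.ext (SL2Hom.phi_lower _ _ t rfl)
      refine exists_fixed (stab_d4 q) (SL2Hom.phi (SL2All.good_of_mem chevD4 hD4 14 (by decide)) K) τ S hSτ φ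
        (fun t ht => by rw [hφ]; exact hSq t ht) ?_ ?_ ?_ ?_ ?_ hn hc
      · intro t ht
        rw [hup]
        exact single_mem (by rw [← hφ, ht]) (by simp)
      · intro t ht
        rw [hlo]
        exact single_mem (by rw [← hφ, ht]) (by simp)
      · intro τ t
        rw [hup, hup, map_xG]
      · intro τ t
        rw [hlo, hlo, map_xG]
      · intro t ht
        rw [hup] at ht
        exact (xG_eq_one_iff hD4 (by decide) t).1 ht
    · intro i j _
      refine PolyMat.iter hρg (σ := τ) ?_ ?_ (polyMat_fam hSq) j i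
      · intro y
        rw [hg, MulAut.mul_apply, MulAut.conj_apply, map_mul, Matrix.mul_assoc, ← map_mul _ g⁻¹ g, inv_mul_cancel,
          map_one, Matrix.mul_one, map_mul]
        rfl
      · intro i
        obtain ⟨i', hi'⟩ := fieldAut_fam τ hSq hSτ i
        refine ⟨i', fun s hs => ?_⟩
        rw [← hi' s hs]
        rfl
  refine (card_le_pow (rep (twistedD4 K q)) (rep_injective _)).trans ?_
  exact Nat.pow_le_pow_left (hK1.trans (Nat.pow_le_pow_left h1 _)) _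

end D4

/-- **Task 223.** -/
theorem bdd_twD4 (n k : ℕ) (hn : 0 < n) : ∃ B : ℕ, ∀ (K : Type) [Field K] [Fintype K] (q : ℕ), IsPrimePow q →
    Fintype.card K = q ^ 3 → Bdd n k B (Cfsg.Lie.twistedD4 K q) :=
  ⟨_, fun _ _ _ _ hq hK => bdd_twD4_model k hn hq hK⟩

end Cfsg.Agent.H71.BddTwD4
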