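import Mathlib
import Cfsg.Agent.Blocks.Orthogonality
import Cfsg.Agent.Blocks.Osima
import Cfsg.Agent.Blocks.CentralProduct
import Cfsg.Agent.Classification.BGBlockB0
import Cfsg.Agent.H62.SecKernel
import Cfsg.Agent.H658.RegPow

/-!
# The principal block of a central extension by a `p`-group on the `p`-regular elements

* `classInner_eq_zero`: a function constant on the cosets of a central subgroup `U` is orthogonal to
  the irreducible characters that are not inflated from `C ⧸ U`;
* `blockPart_reg`: the block part on `p`-regular elements depends on the `p`-regular elements only;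
* `exists_int_infl`: on the `p`-regular elements a member of `B₀(C)` is an integral combination of
  the members of `B₀(C ⧸ U)`;
* `hspan_quot`: if the members of `B₀(C ⧸ U)` are of the form `m + n ξ` on the `p`-regular elements
  then so are the members of `B₀(C)`.
-/

set_option autoImplicit false

namespace Cfsg.Agent.H71.HSpanQuot

open Cfsg
open Cfsg.Agent.H644.CentralQuot Cfsg.Agent.H62.SecKernel

universe u

/-- A function constant on the cosets of a central subgroup is orthogonal to the irreducible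
characters that are not inflated. -/
theorem classInner_eq_zero {C : Type u} [Group C] [Fintype C] {U : Subgroup C} [U.Normal]
    (hU : U ≤ Subgroup.center C) {f : C → ℂ} (hf : ∀ u ∈ U, ∀ g, f (u * g) = f g)
    {χ : IrrCharacter C} (hχ : ¬ ∃ θ : IrrCharacter (C ⧸ U), infl U θ = χ) :
    classInner f (χ : C → ℂ) = 0 := by
  classical
  have := Fintype.ofFinite U
  have hne : (Nat.card U : ℂ) ≠ 0 := by exact_mod_cast Nat.card_pos.ne'
  rw [Blocks.Basic.classInner_def]
  have key : (Nat.card U : ℂ) * ∑ g : C, f g * (starRingEnd ℂ) ((χ : C → ℂ) g) = 0 := by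
    have h1 : ∀ u : U, ∑ g : C, f g * (starRingEnd ℂ) ((χ : C → ℂ) g) =
        ∑ g : C, f g * (starRingEnd ℂ) ((χ : C → ℂ) (u * g)) := by
      intro u
      symm
      refine (Fintype.sum_equiv (Equiv.mulLeft (u : C)⁻¹) _ _ fun g => ?_).symm
      simp only [Equiv.coe_mulLeft]
      rw [hf _ (U.inv_mem u.2), mul_inv_cancel_left]
    calc (Nat.card U : ℂ) * ∑ g : C, f g * (starRingEnd ℂ) ((χ : C → ℂ) g)
        = ∑ u : U, ∑ g : C, f g * (starRingEnd ℂ) ((χ : C → ℂ) (u * g)) := by
          rw [← Finset.sum_congr rfl fun u _ => h1 u, Finset.sum_const, Finset.card_univ,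
            ← Nat.card_eq_fintype_card, nsmul_eq_mul]
      _ = ∑ g : C, f g * (starRingEnd ℂ) (∑ u : U, (χ : C → ℂ) (u * g)) := by
          rw [Finset.sum_comm]
          refine Finset.sum_congr rfl fun g _ => ?_
          rw [map_sum, Finset.mul_sum]
      _ = 0 := by
          refine Finset.sum_eq_zero fun g _ => ?_
          rw [sum_coset hU χ g hχ, map_zero, mul_zero]
  rw [(mul_eq_zero.1 key).resolve_left hne, mul_zero]

/-- The block part on the `p`-regular elements depends on the `p`-regular elements only. -/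
theorem blockPart_reg {C : Type u} [Group C] [Finite C] {p : ℕ} [Fact p.Prime]
    {M : Ideal AlgInt} (hM : IsPModular p M) {B : Set (IrrCharacter C)} (hB : IsPBlock M B)
    {f f' : C → ℂ} (h : ∀ g, ¬ p ∣ orderOf g → f g = f' g) {g : C} (hg : ¬ p ∣ orderOf g) :
    blockPart B f g = blockPart B f' g := by
  have h0 := Blocks.Orthogonality.blockPart_eq_zero hM B
    (fun g => Blocks.Osima.memLocalRing_blockCoeff hM hB g) (f - f') 1 (fun u z hz hz1 => ?_) g 1
    (Blocks.Orthogonality.isPPart_one_of_not_dvd hg) (IsConj.refl 1)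
  · rw [Classification.BGBlockB0.blockPart_sub, Pi.sub_apply, sub_eq_zero] at h0
    exact h0
  · obtain ⟨y, hy, _, _, hy2⟩ := hz
    have hz1 : z = 1 := isConj_one_right.1 hz1
    subst hz1
    rw [one_mul] at hy
    subst hy
    rw [Pi.sub_apply, h _ hy2, sub_self]

/-- On the `p`-regular elements a member of `B₀(C)` is an integral combination of the members of
`B₀(C ⧸ U)`. -/
theorem exists_int_infl {C : Type u} [Group C] [Finite C] {p : ℕ} [hp : Fact p.Prime]
    {M : Ideal AlgInt} (hM : IsPModular p M) (U : Subgroup C) [U.Normal]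
    (hU : U ≤ Subgroup.center C) (hUp : IsPGroup p U) [Fintype (IrrCharacter (C ⧸ U))]
    [DecidablePred (· ∈ principalBlock M (C ⧸ U))]
    {ψ : IrrCharacter C} (hψ : ψ ∈ principalBlock M C) :
    ∃ c : IrrCharacter (C ⧸ U) → ℤ, ∀ h : C, ¬ p ∣ orderOf h →
      (ψ : C → ℂ) h = ∑ θ : IrrCharacter (C ⧸ U) with θ ∈ principalBlock M (C ⧸ U),
        c θ * (θ : C ⧸ U → ℂ) (h : C ⧸ U) := by
  classical
  have := Fintype.ofFinite C
  have : Finite (IrrCharacter C) := Characters.Core.finite_irr
  have := Fintype.ofFinite (IrrCharacter C)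
  obtain ⟨n, r, -, hr⟩ := H658.RegPow.exists_regExp p C 0
  have hf : IsGeneralizedCharacter C (fun g => (ψ : C → ℂ) (g ^ p ^ n)) :=
    H658.RegPow.isGeneralizedCharacter_pow hr
      (Characters.Core.isIrr_isCharacter ψ.2)
  set f : C → ℂ := fun g => (ψ : C → ℂ) (g ^ p ^ n) with hfdef
  have hfU : ∀ u ∈ U, ∀ g, f (u * g) = f g := by
    intro u hu g
    have hc : Commute g u := (Subgroup.mem_center_iff.1 (hU hu) g)
    have hz : ∃ k : ℕ, orderOf u = p ^ k := by
      obtain ⟨k, hk⟩ := IsPGroup.iff_orderOf.1 hUp ⟨u, hu⟩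
      exact ⟨k, by rw [← hk, Subgroup.orderOf_mk]⟩
    show (ψ : C → ℂ) ((u * g) ^ p ^ n) = (ψ : C → ℂ) (g ^ p ^ n)
    rw [← hc.eq, hr.mul_pow_eq hc hz]
  have hint : ∀ χ : IrrCharacter C, ∃ k : ℤ, classInner f (χ : C → ℂ) = k := fun χ =>
    Blocks.CentralProduct.exists_int_classInner hf (Characters.Core.isIrr_isCharacter χ.2)
  choose c hc using hint
  refine ⟨fun θ => c (infl U θ), fun h hh => ?_⟩
  have h1 : (ψ : C → ℂ) h = blockPart (principalBlock M C) f h := by
    rw [← blockPart_reg hM Blocks.PrincipalSection.isPBlock_principalBlock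
      (f := (ψ : C → ℂ)) (f' := f) (fun g hg => ?_) hh,
      (Classification.BGBlockB0.blockPart_irr _ ψ).1 hψ]
    show _ = (ψ : C → ℂ) (g ^ p ^ n)
    rw [hr.pow_of_not_dvd hg]
  rw [h1, Classification.BGBlockB0.blockPart_sum]
  symm
  refine Finset.sum_of_injOn (infl U) (infl_injective U).injOn ?_ ?_ ?_
  · intro θ hθ
    simp only [Finset.coe_filter, Finset.mem_univ, true_and, Set.mem_ofPred_eq] at hθ ⊢
    exact (infl_mem_iff hM hU hUp θ).2 hθ
  · intro χ hχ hn
    rw [Finset.mem_filter] at hχ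
    rw [classInner_eq_zero hU hfU, zero_mul]
    rintro ⟨θ, rfl⟩
    refine hn ⟨θ, ?_, rfl⟩
    simp only [Finset.coe_filter, Finset.mem_univ, true_and, Set.mem_ofPred_eq]
    exact (infl_mem_iff hM hU hUp θ).1 hχ.2
  · intro θ _
    rw [hc, infl_apply]

theorem hspan_quot {C : Type u} [Group C] [Finite C] {p : ℕ} [hp : Fact p.Prime] {M : Ideal AlgInt}
    (hM : IsPModular p M) (U : Subgroup C) [U.Normal] (hU : U ≤ Subgroup.center C)
    (hUp : IsPGroup p U) {ξ : IrrCharacter (C ⧸ U)}
    (hspan : ∀ θ ∈ principalBlock M (C ⧸ U), ∃ m n : ℤ, ∀ h : C ⧸ U, ¬ p ∣ orderOf h →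
      (θ : C ⧸ U → ℂ) h = m + n * (ξ : C ⧸ U → ℂ) h) :
    ∀ ψ ∈ principalBlock M C, ∃ m n : ℤ, ∀ h : C, ¬ p ∣ orderOf h →
      (ψ : C → ℂ) h = m + n * (ξ : C ⧸ U → ℂ) (h : C ⧸ U) := by
  classical
  intro ψ hψ
  have : Finite (IrrCharacter (C ⧸ U)) := Characters.Core.finite_irr
  have := Fintype.ofFinite (IrrCharacter (C ⧸ U))
  obtain ⟨c, hc⟩ := exists_int_infl hM U hU hUp hψ
  choose! m n hmn using hspan
  refine ⟨∑ θ : IrrCharacter (C ⧸ U) with θ ∈ principalBlock M (C ⧸ U), c θ * m θ,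
    ∑ θ : IrrCharacter (C ⧸ U) with θ ∈ principalBlock M (C ⧸ U), c θ * n θ, fun h hh => ?_⟩
  rw [hc h hh]
  push_cast
  rw [Finset.sum_mul, ← Finset.sum_add_distrib]
  refine Finset.sum_congr rfl fun θ hθ => ?_
  rw [hmn θ (Finset.mem_filter.1 hθ).2 _ (not_dvd_orderOf_mk hh)]
  ring

end Cfsg.Agent.H71.HSpanQuot
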