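import Cfsg.Agent.H952.On.Table
import Cfsg.Agent.H507.GmnPSL

/-!
# `PSL_n(q)`, `n ≥ 2 e`, `e` the order of `q` modulo `p` (task 1014, project S3855)

* `padic_GL` : the `p`-part of `|GL_n(q)|` for `p` odd prime to `q`;
* `Pat c π g` : the matrix `g` maps the block `k` of the colouring `c : ι → Option κ` into the block `π k` (and the block
  `none` into itself); `St c`, `HSt c` : the stabilisers in `GL`, `ΓL` of the block system; `perH c : HSt c →* Perm κ`;
* `psl_blocks` : `Ev p (PSL_n(q))` for `n ≥ 2 e`; `psl_c`.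
-/

set_option autoImplicit false
set_option linter.unusedSectionVars false

namespace Cfsg.Agent.H71.OnPSLc

open Matrix Cfsg.Agent.H507.GmnPSL Cfsg.Agent.H467.OddNorm
open Cfsg.Agent.ClassicalGeometry.AutPSL.Root Cfsg.Agent.ClassicalGeometry.AutPSL.Auto
  Cfsg.Agent.ClassicalGeometry.AutPSL.Main Cfsg.Agent.Schreier.ClassPSL

/-! ### numbers -/

section Num

variable {p : ℕ} [hp : Fact p.Prime]

theorem dvd_pow_sub_iff {q e : ℕ} (hq : 1 < q) (he : orderOf ((q : ℕ) : ZMod p) = e) (k : ℕ) :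
    p ∣ q ^ k - 1 ↔ e ∣ k := by
  rw [← he, orderOf_dvd_iff_pow_eq_one, ← ZMod.natCast_eq_zero_iff, Nat.cast_sub (Nat.one_le_pow _ _ (by omega)),
    Nat.cast_pow, Nat.cast_one, sub_eq_zero]

theorem padic_pow_sub {q e : ℕ} (hp2 : p ≠ 2) (hq : 1 < q) (hnd : ¬ p ∣ q) (he : orderOf ((q : ℕ) : ZMod p) = e)
    {m : ℕ} (hm : m ≠ 0) :
    padicValNat p (q ^ m - 1) = if e ∣ m then padicValNat p (q ^ e - 1) + padicValNat p (m / e) else 0 := by
  split_ifs with h
  · obtain ⟨k, rfl⟩ := h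
    have he0 : e ≠ 0 := by rintro rfl; simp at hm
    have hk0 : k ≠ 0 := by rintro rfl; simp at hm
    have h1 := padicValNat.pow_sub_pow (p := p) (x := q ^ e) (y := 1) (hp.out.odd_of_ne_two hp2)
      (Nat.one_lt_pow he0 hq) ((dvd_pow_sub_iff hq he e).2 dvd_rfl) (fun h => hnd (hp.out.dvd_of_dvd_pow h)) hk0
    rw [one_pow, ← pow_mul] at h1
    rw [h1, Nat.mul_div_cancel_left _ (Nat.pos_of_ne_zero he0)]
  · exact padicValNat.eq_zero_of_not_dvd (fun h' => h ((dvd_pow_sub_iff hq he m).1 h'))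

theorem padic_sum {q e : ℕ} (hp2 : p ≠ 2) (hq : 1 < q) (hnd : ¬ p ∣ q) (he : orderOf ((q : ℕ) : ZMod p) = e) (n : ℕ) :
    ∑ j ∈ Finset.range n, padicValNat p (q ^ (j + 1) - 1) =
      (n / e) * padicValNat p (q ^ e - 1) + padicValNat p (n / e).factorial := by
  induction n with
  | zero => simp
  | succ n ih =>
    rw [Finset.sum_range_succ, ih, padic_pow_sub hp2 hq hnd he (Nat.succ_ne_zero n), Nat.succ_div]
    split_ifs with h
    · rw [Nat.factorial_succ, padicValNat.mul (Nat.succ_ne_zero _) (Nat.factorial_ne_zero _)]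
      ring
    · simp

/-- the `p`-part of `|GL_n(q)|` -/
theorem padic_GL {q e : ℕ} (hp2 : p ≠ 2) (hq : 1 < q) (hnd : ¬ p ∣ q) (he : orderOf ((q : ℕ) : ZMod p) = e) (n : ℕ) :
    padicValNat p (∏ i : Fin n, (q ^ n - q ^ (i : ℕ))) =
      (n / e) * padicValNat p (q ^ e - 1) + padicValNat p (n / e).factorial := by
  have h1 : ∀ i : Fin n, q ^ n - q ^ (i : ℕ) ≠ 0 := by
    intro i
    exact Nat.sub_ne_zero_of_lt (Nat.pow_lt_pow_right hq i.2)
  rw [H507.GmnMono.padic_prod _ _ (fun i _ => h1 i), ← padic_sum hp2 hq hnd he]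
  have h2 : ∀ i : Fin n, padicValNat p (q ^ n - q ^ (i : ℕ)) = padicValNat p (q ^ (n - i) - 1) := by
    intro i
    have h3 : q ^ n - q ^ (i : ℕ) = q ^ (i : ℕ) * (q ^ (n - i) - 1) := by
      rw [Nat.mul_sub, mul_one, ← pow_add, Nat.add_sub_cancel' i.2.le]
    have h4 : q ^ (n - (i : ℕ)) - 1 ≠ 0 :=
      Nat.sub_ne_zero_of_lt (Nat.one_lt_pow (Nat.sub_ne_zero_of_lt i.2) hq)
    rw [h3, padicValNat.mul (pow_ne_zero _ (by omega)) h4, padicValNat.eq_zero_of_not_dvd, zero_add]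
    intro h5
    exact hnd (hp.out.dvd_of_dvd_pow h5)
  rw [Finset.sum_congr rfl fun i _ => h2 i, Finset.sum_range (fun i => padicValNat p (q ^ (i + 1) - 1)),
    ← Equiv.sum_comp Fin.revPerm]
  refine Finset.sum_congr rfl fun i _ => ?_
  rw [Fin.revPerm_apply, Fin.val_rev]
  congr 3
  have := i.2
  omega

variable {F : Type*} [Field F] [Fintype F]

theorem not_dvd_index {e n : ℕ} (hp2 : p ≠ 2) (hnd : ¬ p ∣ Fintype.card F)
    (he : orderOf ((Fintype.card F : ℕ) : ZMod p) = e) (he0 : 0 < e) {K : Subgroup (GL (Fin n) F)}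
    (hK : Nat.card ↥K = (n / e).factorial * Nat.card (GL (Fin e) F) ^ (n / e)) : ¬ p ∣ K.index := by
  have hq : 1 < Fintype.card F := Fintype.one_lt_card
  have h1 := K.card_mul_index
  rw [hK, Matrix.card_GL_field, Matrix.card_GL_field] at h1
  have h2 := padic_GL (p := p) hp2 hq hnd he n
  have h3 := padic_GL (p := p) hp2 hq hnd he e
  rw [Nat.div_self he0, one_mul, Nat.factorial_one, padicValNat_one_right, add_zero] at h3
  have h4 : (∏ i : Fin e, (Fintype.card F ^ e - Fintype.card F ^ (i : ℕ))) ≠ 0 :=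
    Finset.prod_ne_zero_iff.2 fun i _ => Nat.sub_ne_zero_of_lt (Nat.pow_lt_pow_right hq i.2)
  rw [← h1, padicValNat.mul (mul_ne_zero (Nat.factorial_ne_zero _) (pow_ne_zero _ h4))
    (Subgroup.index_ne_zero_of_finite), padicValNat.mul (Nat.factorial_ne_zero _) (pow_ne_zero _ h4),
    padicValNat.pow, h3] at h2
  intro h5
  have h6 : 1 ≤ padicValNat p K.index := one_le_padicValNat_of_dvd Subgroup.index_ne_zero_of_finite h5
  omega

end Num

/-! ### monomial matrices over a ring -/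

section Mono

variable {κ R : Type*} [Fintype κ] [DecidableEq κ] [Ring R]

/-- the monomial matrix: column `j` has the entry `d j` in row `π j` -/
def M (π : Equiv.Perm κ) (d : κ → R) : Matrix κ κ R := Matrix.of fun i j => if i = π j then d j else 0

theorem M_apply (π : Equiv.Perm κ) (d : κ → R) (i j : κ) : M π d i j = if i = π j then d j else 0 := rfl

theorem M_mul (π τ : Equiv.Perm κ) (d e : κ → R) : M π d * M τ e = M (π * τ) (fun j => d (τ j) * e j) := by
  ext i j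
  rw [Matrix.mul_apply, Finset.sum_eq_single (τ j)]
  · rw [M_apply, M_apply, M_apply, if_pos rfl, Equiv.Perm.mul_apply]
    split_ifs <;> simp
  · intro k _ hk
    rw [M_apply τ, if_neg hk, mul_zero]
  · intro h
    exact absurd (Finset.mem_univ _) h

theorem M_one : M (1 : Equiv.Perm κ) (fun _ => (1 : R)) = 1 := by
  ext i j
  rw [M_apply, Matrix.one_apply]
  rfl

/-- the monomial matrix as a unit -/
def mono (π : Equiv.Perm κ) (d : κ → Rˣ) : (Matrix κ κ R)ˣ where
  val := M π (fun j => (d j : R))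
  inv := M π⁻¹ (fun j => ((d (π⁻¹ j))⁻¹ : Rˣ))
  val_inv := by
    rw [M_mul, mul_inv_cancel, ← M_one]
    congr 1
    funext j
    rw [Units.mul_inv]
  inv_val := by
    rw [M_mul, inv_mul_cancel, ← M_one]
    congr 1
    funext j
    have h1 : π⁻¹ (π j) = j := π.symm_apply_apply j
    rw [h1, Units.inv_mul]

theorem coe_mono (π : Equiv.Perm κ) (d : κ → Rˣ) :
    ((mono π d : (Matrix κ κ R)ˣ) : Matrix κ κ R) = M π (fun j => (d j : R)) := rfl

theorem mono_mul (π τ : Equiv.Perm κ) (d e : κ → Rˣ) :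
    mono π d * mono τ e = mono (π * τ) (fun j => d (τ j) * e j) := by
  apply Units.ext
  rw [Units.val_mul, coe_mono, coe_mono, coe_mono, M_mul]
  rfl

theorem mono_one : mono (1 : Equiv.Perm κ) (fun _ => (1 : Rˣ)) = 1 := by
  apply Units.ext
  rw [coe_mono, Units.val_one]
  exact M_one

theorem mono_inv (π : Equiv.Perm κ) (d : κ → Rˣ) : (mono π d)⁻¹ = mono π⁻¹ (fun j => (d (π⁻¹ j))⁻¹) := by
  rw [inv_eq_iff_mul_eq_one, mono_mul, mul_inv_cancel, ← mono_one]
  congr 1
  funext j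
  exact mul_inv_cancel _

theorem mono_injective [Nontrivial R] {π τ : Equiv.Perm κ} {d e : κ → Rˣ} (h : mono π d = mono τ e) :
    π = τ ∧ d = e := by
  have h1 : ∀ i j, M π (fun j => (d j : R)) i j = M τ (fun j => (e j : R)) i j := by
    intro i j
    rw [← coe_mono, ← coe_mono, h]
  have h2 : π = τ := by
    apply Equiv.ext
    intro j
    by_contra hne
    have h3 := h1 (π j) j
    rw [M_apply, M_apply, if_pos rfl, if_neg hne] at h3
    exact (d j).ne_zero h3
  refine ⟨h2, ?_⟩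
  subst h2
  funext j
  have h3 := h1 (π j) j
  rw [M_apply, M_apply, if_pos rfl, if_pos rfl] at h3
  exact Units.ext h3

/-- the group of monomial matrices -/
def Mon (κ R : Type*) [Fintype κ] [DecidableEq κ] [Ring R] : Subgroup (Matrix κ κ R)ˣ where
  carrier := {g | ∃ π d, g = mono π d}
  one_mem' := ⟨1, _, mono_one.symm⟩
  mul_mem' := by
    rintro _ _ ⟨π, d, rfl⟩ ⟨τ, e, rfl⟩
    exact ⟨_, _, mono_mul _ _ _ _⟩
  inv_mem' := by
    rintro _ ⟨π, d, rfl⟩
    exact ⟨_, _, mono_inv _ _⟩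

/-- the parametrisation of the monomial matrices -/
noncomputable def monEquiv (κ R : Type*) [Fintype κ] [DecidableEq κ] [Ring R] [Nontrivial R] :
    Equiv.Perm κ × (κ → Rˣ) ≃ ↥(Mon κ R) :=
  Equiv.ofBijective (fun x => ⟨mono x.1 x.2, x.1, x.2, rfl⟩) ⟨by
    rintro ⟨π, d⟩ ⟨τ, e⟩ h
    obtain ⟨h1, h2⟩ := mono_injective (congrArg Subtype.val h)
    rw [Prod.mk.injEq]
    exact ⟨h1, h2⟩, by
    rintro ⟨_, π, d, rfl⟩
    exact ⟨(π, d), rfl⟩⟩

theorem card_Mon [Nontrivial R] : Nat.card ↥(Mon κ R) = (Fintype.card κ).factorial * Nat.card Rˣ ^ Fintype.card κ := by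
  rw [← Nat.card_congr (monEquiv κ R), Nat.card_prod, Nat.card_perm, Nat.card_fun, Nat.card_eq_fintype_card]

end Mono

/-! ### blocks -/

section Blocks

variable {κ m r ι F : Type*} [Fintype κ] [DecidableEq κ] [Fintype m] [DecidableEq m] [Fintype r] [DecidableEq r]
  [Fintype ι] [DecidableEq ι] [Field F]

/-- block matrices as matrices -/
def bl (φ : (κ × m) ⊕ r ≃ ι) : Matrix κ κ (Matrix m m F) →* Matrix ι ι F where
  toFun X := (Matrix.fromBlocks (Matrix.comp κ κ m m F X) 0 0 1).submatrix φ.symm φ.symm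
  map_one' := by
    rw [Matrix.comp_one, Matrix.fromBlocks_one, Matrix.submatrix_one_equiv]
  map_mul' X Y := by
    have h1 : Matrix.comp κ κ m m F (X * Y) = Matrix.comp κ κ m m F X * Matrix.comp κ κ m m F Y :=
      map_mul (Matrix.compRingEquiv κ m F) X Y
    rw [Matrix.submatrix_mul_equiv, Matrix.fromBlocks_multiply, h1]
    simp

theorem bl_apply (φ : (κ × m) ⊕ r ≃ ι) (X : Matrix κ κ (Matrix m m F)) (x y : ι) :
    bl φ X x y = Matrix.fromBlocks (Matrix.comp κ κ m m F X) 0 0 1 (φ.symm x) (φ.symm y) := rfl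

theorem bl_injective (φ : (κ × m) ⊕ r ≃ ι) : Function.Injective (bl (F := F) φ) := by
  intro X Y h
  apply (Matrix.comp κ κ m m F).injective
  have h1 : Matrix.fromBlocks (Matrix.comp κ κ m m F X) 0 0 (1 : Matrix r r F) =
      Matrix.fromBlocks (Matrix.comp κ κ m m F Y) (0 : Matrix (κ × m) r F) 0 1 := by
    ext a b
    have h2 := congrFun (congrFun h (φ a)) (φ b)
    rw [bl_apply, bl_apply, φ.symm_apply_apply, φ.symm_apply_apply] at h2
    exact h2
  exact (Matrix.fromBlocks_inj.1 h1).1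

/-- the colouring -/
def col (φ : (κ × m) ⊕ r ≃ ι) (x : ι) : Option κ := Sum.elim (fun y => some y.1) (fun _ => none) (φ.symm x)

theorem col_surj [Nonempty m] (φ : (κ × m) ⊕ r ≃ ι) (k : κ) : ∃ b, col φ b = some k := by
  obtain ⟨a⟩ : Nonempty m := inferInstance
  refine ⟨φ (Sum.inl (k, a)), ?_⟩
  rw [col, φ.symm_apply_apply]
  rfl

/-- the matrix `g` maps the block `k` into the block `π k` -/
def Pat (c : ι → Option κ) (π : Equiv.Perm κ) (g : Matrix ι ι F) : Prop := ∀ a b, g a b ≠ 0 → c a = (c b).map π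

theorem pat_bl (φ : (κ × m) ⊕ r ≃ ι) (π : Equiv.Perm κ) (d : κ → Matrix m m F) : Pat (col φ) π (bl φ (M π d)) := by
  intro a b h
  rw [bl_apply] at h
  rw [col, col]
  rcases ha : φ.symm a with ⟨i, x⟩ | x <;> rcases hb : φ.symm b with ⟨j, y⟩ | y <;> rw [ha, hb] at h
  · rw [Matrix.fromBlocks_apply₁₁, Matrix.comp_apply, M_apply] at h
    change some i = some (π j)
    by_contra hne
    have h1 : ¬ i = π j := fun h2 => hne (congrArg some h2)
    rw [if_neg h1] at h
    exact h rfl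
  · exact absurd rfl h
  · exact absurd rfl h
  · rfl

theorem Pat.mul {c : ι → Option κ} {π τ : Equiv.Perm κ} {g h : Matrix ι ι F} (hg : Pat c π g) (hh : Pat c τ h) :
    Pat c (π * τ) (g * h) := by
  intro a b hab
  rw [Matrix.mul_apply] at hab
  obtain ⟨k, -, hk⟩ := Finset.exists_ne_zero_of_sum_ne_zero hab
  rw [hg a k (left_ne_zero_of_mul hk), hh k b (right_ne_zero_of_mul hk), Option.map_map]
  rfl

theorem Pat.one {c : ι → Option κ} : Pat c 1 (1 : Matrix ι ι F) := by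
  intro a b hab
  have h1 : a = b := by
    by_contra hne
    exact hab (Matrix.one_apply_ne hne)
  rw [h1]
  cases c b <;> rfl

theorem Pat.smul_one {c : ι → Option κ} (t : F) : Pat c 1 (t • (1 : Matrix ι ι F)) := by
  intro a b hab
  exact Pat.one a b (fun h => hab (by rw [Matrix.smul_apply, h, smul_zero]))

theorem Pat.map {c : ι → Option κ} {π : Equiv.Perm κ} {g : Matrix ι ι F} (hg : Pat c π g) (σ : F →+* F) :
    Pat c π (g.map σ) := by
  intro a b hab
  exact hg a b (fun h => hab (by rw [Matrix.map_apply, h, map_zero]))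

theorem Pat.unique {c : ι → Option κ} (hc : ∀ k, ∃ b, c b = some k) {π τ : Equiv.Perm κ} {g : GL ι F}
    (h1 : Pat c π (g : Matrix ι ι F)) (h2 : Pat c τ (g : Matrix ι ι F)) : π = τ := by
  apply Equiv.ext
  intro k
  obtain ⟨b, hb⟩ := hc k
  have h3 : ∃ a, (g : Matrix ι ι F) a b ≠ 0 := by
    by_contra hcon
    push Not at hcon
    have h4 : ((g⁻¹ : GL ι F) : Matrix ι ι F) * (g : Matrix ι ι F) = 1 := by
      rw [← Units.val_mul, inv_mul_cancel, Units.val_one]
    have h5 := congrFun (congrFun h4 b) b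
    rw [Matrix.mul_apply, Matrix.one_apply_eq, Finset.sum_eq_zero] at h5
    · exact zero_ne_one h5
    · intro k _
      rw [hcon k, mul_zero]
  obtain ⟨a, ha⟩ := h3
  have h4 := (h1 a b ha).symm.trans (h2 a b ha)
  rw [hb] at h4
  exact Option.some_injective _ h4

/-- the stabiliser of the block system -/
def St (F : Type*) [Field F] (c : ι → Option κ) : Subgroup (GL ι F) where
  carrier := {g | ∃ π, Pat c π (g : Matrix ι ι F) ∧ Pat c π⁻¹ ((g⁻¹ : GL ι F) : Matrix ι ι F)}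
  one_mem' := ⟨1, Pat.one, by rw [inv_one, inv_one]; exact Pat.one⟩
  mul_mem' := by
    rintro x y ⟨π, h1, h2⟩ ⟨τ, h3, h4⟩
    refine ⟨π * τ, ?_, ?_⟩
    · rw [Units.val_mul]
      exact h1.mul h3
    · rw [_root_.mul_inv_rev, _root_.mul_inv_rev, Units.val_mul]
      exact h4.mul h2
  inv_mem' := by
    rintro x ⟨π, h1, h2⟩
    exact ⟨π⁻¹, h2, by rw [inv_inv, inv_inv]; exact h1⟩

theorem mem_St {c : ι → Option κ} {g : GL ι F} :
    g ∈ St F c ↔ ∃ π, Pat c π (g : Matrix ι ι F) ∧ Pat c π⁻¹ ((g⁻¹ : GL ι F) : Matrix ι ι F) := Iff.rfl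

/-- the stabiliser of the block system in the semilinear group -/
def HSt (F : Type*) [Field F] (c : ι → Option κ) : Subgroup (GamL ι F) where
  carrier := {x | x.left ∈ St F c}
  one_mem' := (St F c).one_mem
  mul_mem' := by
    intro x y hx hy
    change x.left * mgAut ι F x.right y.left ∈ St F c
    refine (St F c).mul_mem hx ?_
    obtain ⟨π, h1, h2⟩ := mem_St.1 hy
    refine ⟨π, h1.map _, ?_⟩
    rw [← map_inv]
    exact h2.map _
  inv_mem' := by
    intro x hx
    change mgAut ι F x.right⁻¹ x.left⁻¹ ∈ St F c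
    obtain ⟨π, h1, h2⟩ := mem_St.1 hx
    refine ⟨π⁻¹, h2.map _, ?_⟩
    rw [← map_inv, inv_inv, inv_inv]
    exact h1.map _

theorem mem_HSt {c : ι → Option κ} {x : GamL ι F} : x ∈ HSt F c ↔ x.left ∈ St F c := Iff.rfl

/-- the permutation of the blocks -/
noncomputable def perH {c : ι → Option κ} (hc : ∀ k, ∃ b, c b = some k) : ↥(HSt F c) →* Equiv.Perm κ where
  toFun x := (mem_St.1 (mem_HSt.1 x.2)).choose
  map_one' := by
    refine Pat.unique (g := (1 : GL ι F)) hc (mem_St.1 (mem_HSt.1 (1 : ↥(HSt F c)).2)).choose_spec.1 Pat.one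
  map_mul' x y := by
    have h1 := (mem_St.1 (mem_HSt.1 x.2)).choose_spec.1
    have h2 := (mem_St.1 (mem_HSt.1 y.2)).choose_spec.1
    have h3 := (mem_St.1 (mem_HSt.1 (x * y).2)).choose_spec.1
    refine Pat.unique (g := x.1.left * mgAut ι F x.1.right y.1.left) hc h3 ?_
    rw [Units.val_mul]
    exact h1.mul (h2.map _)

theorem perH_spec {c : ι → Option κ} (hc : ∀ k, ∃ b, c b = some k) (x : ↥(HSt F c)) :
    Pat c (perH hc x) (x.1.left : Matrix ι ι F) := (mem_St.1 (mem_HSt.1 x.2)).choose_spec.1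

theorem perH_eq {c : ι → Option κ} (hc : ∀ k, ∃ b, c b = some k) {x : ↥(HSt F c)} {π : Equiv.Perm κ}
    (h : Pat c π (x.1.left : Matrix ι ι F)) : perH hc x = π := Pat.unique hc (perH_spec hc x) h

theorem index_HSt [Finite F] (c : ι → Option κ) : (HSt F c).index = (St F c).index := by
  have hfin : Finite (F ≃+* F) :=
    Finite.of_injective (fun σ => (σ : F → F)) (fun a b h => RingEquiv.ext fun x => congrFun h x)
  have e1 : Nat.card (GamL ι F) = Nat.card (GL ι F) * Nat.card (F ≃+* F) := by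
    rw [Nat.card_congr (SemidirectProduct.equivProd (φ := mgAut ι F)), Nat.card_prod]
  have e2 : Nat.card ↥(HSt F c) = Nat.card ↥(St F c) * Nat.card (F ≃+* F) := by
    rw [← Nat.card_prod]
    refine Nat.card_congr ⟨fun x => (⟨x.1.left, x.2⟩, x.1.right), fun y => ⟨⟨y.1.1, y.2⟩, y.1.2⟩, fun x => rfl,
      fun y => rfl⟩
  have h1 := (HSt F c).card_mul_index
  have h2 := (St F c).card_mul_index
  rw [e1, e2, ← h2] at h1
  have h3 : 0 < Nat.card ↥(St F c) * Nat.card (F ≃+* F) := Nat.mul_pos Nat.card_pos Nat.card_pos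
  apply Nat.eq_of_mul_eq_mul_left h3
  rw [h1]
  ring

theorem pat_perm {c : ι → Option κ} {π : Equiv.Perm κ} {σ : Equiv.Perm ι} (h : ∀ b, c (σ b) = (c b).map π)
    (d : ι → F) : Pat c π (H507.GmnMono.M σ d) := by
  intro a b hab
  rw [H507.GmnMono.M_apply] at hab
  have h1 : a = σ b := by
    by_contra hne
    rw [if_neg hne] at hab
    exact hab rfl
  rw [h1, h]

theorem perm_inv {c : ι → Option κ} {π : Equiv.Perm κ} {σ : Equiv.Perm ι} (h : ∀ b, c (σ b) = (c b).map π) (b : ι) :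
    c (σ⁻¹ b) = (c b).map (π⁻¹ : Equiv.Perm κ) := by
  have h1 := h (σ⁻¹ b)
  have h0 : σ (σ⁻¹ b) = b := σ.apply_symm_apply b
  rw [h0] at h1
  rw [h1, Option.map_map]
  have h2 : ((π⁻¹ : Equiv.Perm κ) : κ → κ) ∘ (π : κ → κ) = id := by
    funext k
    exact π.symm_apply_apply k
  rw [h2, Option.map_id]
  rfl

theorem mono_mem_St {c : ι → Option κ} {π : Equiv.Perm κ} {σ : Equiv.Perm ι} (h : ∀ b, c (σ b) = (c b).map π)
    (d : ι → Fˣ) : H507.GmnMono.mono σ d ∈ St F c := by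
  refine ⟨π, pat_perm h _, ?_⟩
  rw [H507.GmnMono.mono_inv]
  exact pat_perm (perm_inv h) _

/-- the block monomial group -/
def BM (F : Type*) [Field F] (φ : (κ × m) ⊕ r ≃ ι) : Subgroup (GL ι F) :=
  (Mon κ (Matrix m m F)).map (Units.map (bl φ))

theorem BM_le (φ : (κ × m) ⊕ r ≃ ι) : BM F φ ≤ St F (col φ) := by
  rintro _ ⟨_, ⟨π, d, rfl⟩, rfl⟩
  refine ⟨π, pat_bl φ π _, ?_⟩
  rw [← map_inv, mono_inv]
  exact pat_bl φ π⁻¹ _

theorem card_BM [Nonempty m] (φ : (κ × m) ⊕ r ≃ ι) :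
    Nat.card ↥(BM F φ) = (Fintype.card κ).factorial * Nat.card (GL m F) ^ Fintype.card κ := by
  rw [BM, Subgroup.card_map_of_injective (Units.map_injective (bl_injective φ)), card_Mon]

end Blocks

/-! ### the row -/

section Main

variable {p : ℕ} [hp : Fact p.Prime] {F : Type} [Field F] [Fintype F] {n : ℕ}

theorem range_index (hn : 2 ≤ n) (hp2 : p ≠ 2) (H : Subgroup (GamL (Fin n) F)) (hH : ¬ p ∣ H.index) :
    ¬ p ∣ ((Phi (Fin n) F).comp H.subtype).range.index := by
  rw [MonoidHom.range_comp, Subgroup.range_subtype, Subgroup.index_map]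
  intro hd
  rcases hp.out.dvd_mul.1 hd with h | h
  · exact hH (h.trans (Subgroup.index_dvd_of_le le_sup_left))
  · obtain ⟨P⟩ : Nonempty (Sylow p (MulAut (Matrix.ProjectiveSpecialLinearGroup (Fin n) F))) := inferInstance
    apply P.not_dvd_index
    refine h.trans (Subgroup.index_dvd_of_le ?_)
    intro x hx
    obtain ⟨k, hk⟩ := P.2 ⟨x, hx⟩
    have hk' : x ^ p ^ k = 1 := congrArg Subtype.val hk
    obtain ⟨B, σ, h⟩ := Cfsg.Agent.BpLin.exists_type hn ((hp.out.odd_of_ne_two hp2).pow) hk'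
    exact ⟨⟨B, σ⟩, by rw [Phi_apply, h]⟩

theorem not_dvd_card (hpF : (p : F) ≠ 0) : ¬ p ∣ Fintype.card F := by
  intro h
  obtain ⟨r, hr⟩ := CharP.exists F
  have hr' : Fact r.Prime := ⟨CharP.char_is_prime F r⟩
  obtain ⟨k, -, hk⟩ := FiniteField.card F r
  rw [hk] at h
  have h1 := (Nat.prime_dvd_prime_iff_eq hp.out hr'.out).1 (hp.out.dvd_of_dvd_pow h)
  rw [h1] at hpF
  exact hpF (CharP.cast_eq_zero F r)

/-- **`PSL_n(q)`, `n ≥ 2 e`, `e` the order of `q` modulo `p`.** -/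
theorem psl_blocks {e : ℕ} (hp2 : p ≠ 2) (hpF : (p : F) ≠ 0)
    (he : orderOf ((Fintype.card F : ℕ) : ZMod p) = e) (hn : 2 * e ≤ n)
    (hc : Subgroup.center (Matrix.ProjectiveSpecialLinearGroup (Fin n) F) = ⊥) :
    Ev p (Matrix.ProjectiveSpecialLinearGroup (Fin n) F) := by
  classical
  have hnd : ¬ p ∣ Fintype.card F := not_dvd_card hpF
  have he0 : 0 < e := by
    rw [← he, orderOf_pos_iff]
    have h1 : ((Fintype.card F : ℕ) : ZMod p) ≠ 0 := by
      rw [Ne, ZMod.natCast_eq_zero_iff]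
      exact hnd
    have h2 : IsOfFinOrder (Units.mk0 _ h1) := isOfFinOrder_of_finite _
    exact (Units.isOfFinOrder_val).2 h2
  have hn2 : 2 ≤ n := by omega
  have hnt : Nontrivial (Fin n) := Fin.nontrivial_iff_two_le.2 hn2
  have hw : 2 ≤ n / e := (Nat.le_div_iff_mul_le he0).2 hn
  have hme : Nonempty (Fin e) := ⟨⟨0, he0⟩⟩
  have hcard : Fintype.card ((Fin (n / e) × Fin e) ⊕ Fin (n - n / e * e)) = Fintype.card (Fin n) := by
    rw [Fintype.card_sum, Fintype.card_prod, Fintype.card_fin, Fintype.card_fin, Fintype.card_fin, Fintype.card_fin]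
    have := Nat.div_mul_le_self n e
    omega
  let φ : (Fin (n / e) × Fin e) ⊕ Fin (n - n / e * e) ≃ Fin n := Fintype.equivOfCardEq hcard
  let c := col φ
  have hcs : ∀ k, ∃ b, c b = some k := col_surj φ
  have hidx : ¬ p ∣ (HSt F c).index := by
    rw [index_HSt]
    have h1 : ¬ p ∣ (BM F φ).index := by
      refine not_dvd_index hp2 hnd he he0 ?_
      rw [card_BM, Fintype.card_fin]
    exact fun h => h1 (h.trans (Subgroup.index_dvd_of_le (BM_le φ)))
  -- the element `s`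
  let i0 : Fin (n / e) := ⟨0, by omega⟩
  let i1 : Fin (n / e) := ⟨1, by omega⟩
  have hi : i0 ≠ i1 := by
    intro h
    have h1 : (0 : ℕ) = 1 := congrArg Fin.val h
    exact zero_ne_one h1
  let σ' : Equiv.Perm ((Fin (n / e) × Fin e) ⊕ Fin (n - n / e * e)) :=
    Equiv.sumCongr (Equiv.prodCongr (Equiv.swap i0 i1) (Equiv.refl _)) (Equiv.refl _)
  let σ : Equiv.Perm (Fin n) := φ.permCongr σ'
  have hσ : ∀ b, c (σ b) = (c b).map (Equiv.swap i0 i1) := by
    intro b
    change Sum.elim _ _ (φ.symm (φ (σ' (φ.symm b)))) = Option.map _ (Sum.elim _ _ (φ.symm b))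
    rw [φ.symm_apply_apply]
    rcases φ.symm b with ⟨i, x⟩ | x
    · rfl
    · rfl
  let u : Fˣ := Units.map (Int.castRingHom F).toMonoidHom (Equiv.Perm.sign σ)
  have hu : (u : F) = ((Equiv.Perm.sign σ : ℤˣ) : F) := rfl
  let x0 : Fin n := ⟨0, by omega⟩
  let d : Fin n → Fˣ := Pi.mulSingle x0 u
  have hdet : (H507.GmnMono.M σ (fun k => (d k : F))).det = 1 := by
    rw [H507.GmnMono.det_M]
    have h1 : ∏ k, (d k : F) = u := by
      rw [← Units.coe_prod]
      change ((∏ k, (Pi.mulSingle x0 u : Fin n → Fˣ) k : Fˣ) : F) = u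
      rw [Finset.prod_pi_mulSingle']
      simp
    rw [h1, hu]
    rcases Int.units_eq_one_or (Equiv.Perm.sign σ) with h | h <;> rw [h] <;> simp
  let s : Matrix.SpecialLinearGroup (Fin n) F := ⟨_, hdet⟩
  have hs : Matrix.SpecialLinearGroup.toGL s = H507.GmnMono.mono σ d := by
    apply Units.ext
    rfl
  have hmem : (⟨Matrix.SpecialLinearGroup.toGL s, 1⟩ : GamL (Fin n) F) ∈ HSt F c := by
    rw [mem_HSt]
    change Matrix.SpecialLinearGroup.toGL s ∈ St F c
    rw [hs]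
    exact mono_mem_St hσ d
  refine Ev.of_range hp2 hc ((Phi (Fin n) F).comp (HSt F c).subtype) (range_index hn2 hp2 _ hidx)
    (Equiv.Perm.sign.comp (perH hcs)) ?_ (γ := ⟨_, hmem⟩) (s := pr s) (Phi_inner s) ?_
  · rintro ⟨x, hx⟩ h
    change Phi (Fin n) F x = 1 at h
    rw [Phi_apply] at h
    have h1 : lift (cj x.left * fld x.right) = lift (fld (ι := Fin n) (1 : F ≃+* F)) := by
      rw [h, map_one, map_one]
    obtain ⟨⟨t, ht⟩, -⟩ := injective_aux h1
    have h2 : perH hcs ⟨x, hx⟩ = 1 := by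
      refine perH_eq hcs ?_
      change Pat c 1 (x.left : Matrix (Fin n) (Fin n) F)
      rw [← ht, Matrix.scalar_apply, ← Matrix.smul_one_eq_diagonal]
      exact Pat.smul_one t
    rw [MonoidHom.comp_apply, h2, map_one]
  · rw [MonoidHom.comp_apply, perH_eq hcs (π := Equiv.swap i0 i1), Equiv.Perm.sign_swap hi]
    · decide
    · change Pat c _ ((Matrix.SpecialLinearGroup.toGL s : GL (Fin n) F) : Matrix (Fin n) (Fin n) F)
      rw [hs]
      exact pat_perm hσ _

end Main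

set_option linter.unusedVariables false in
/-- the row `PSL_n(q)`, `e ≥ 3` odd, `n ≥ 2 e` -/
theorem psl_c {F : Type} [Field F] [Fintype F] {n p e : ℕ} [Fact p.Prime] (hp2 : p ≠ 2) (hpF : (p : F) ≠ 0)
    (he : orderOf ((Fintype.card F : ℕ) : ZMod p) = e) (h3 : 3 ≤ e) (ho : Odd e) (hn : 2 * e ≤ n)
    (hc : Subgroup.center (Matrix.ProjectiveSpecialLinearGroup (Fin n) F) = ⊥) :
    Ev p (Matrix.ProjectiveSpecialLinearGroup (Fin n) F) :=
  psl_blocks hp2 hpF he hn hc

end Cfsg.Agent.H71.OnPSLc
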