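import Cfsg.Agent.H972.NSm
import Cfsg.Agent.H371.Core.Fam
import Cfsg.Agent.H98.SzPartition
import Cfsg.Agent.OddCyclic.ClaimC.SzIso
import Cfsg.Agent.LieRecognition.ReeSetup
import Cfsg.Agent.LieRecognition.ReeFinal
import Cfsg.Agent.LieRecognition.ReeTorusTw
import Cfsg.Agent.S0324
import Cfsg.Agent.S1116
import Cfsg.Agent.S1068

/-!
# Nilpotent subgroups of order prime to the characteristic: Suzuki and Ree groups (helper71, for S2242)

`off_Suz`, `off_Ree`, `off_2F4`.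
-/

set_option autoImplicit false

namespace Cfsg.Agent.H71.SmallOff

open Subgroup Cfsg Cfsg.Lie
open Cfsg.Agent.H972.NSm

universe u

/-- bound for the orders of the centralizers of the elements of order `r` -/
theorem smallAt_of_card {G : Type*} [Group G] [Finite G] {r : ℕ} (hr : r.Prime) (b : ℕ)
    (h : ∀ x : G, orderOf x = r → Nat.card ↥(centralizer ({x} : Set G)) ≤ b) (hb : b ^ 2 < Nat.card G) : SmallAt r G :=
  smallAt_of_cent hr fun x hx => ⟨b, nle_of_card (h x hx), hb⟩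

/-! ### Suzuki groups -/

theorem off_sz {F : Type*} [Field F] [Fintype F] {k : ℕ} (hk : 1 ≤ k) (hF : Fintype.card F = 2 ^ (2 * k + 1)) :
    SmallOff 2 ↥(Cfsg.Sz F k) := by
  classical
  have hcard := Cfsg.Agent.S0324.result hk hF
  have h8 : 8 ≤ 2 ^ (2 * k + 1) := by
    calc 8 = 2 ^ 3 := by norm_num
      _ ≤ 2 ^ (2 * k + 1) := Nat.pow_le_pow_right (by norm_num) (by omega)
  have ht : 2 ^ (k + 1) ≤ 2 ^ (2 * k + 1) := Nat.pow_le_pow_right (by norm_num) (by omega)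
  have hfin : Finite ↥(Cfsg.Sz F k) := Nat.finite_of_card_ne_zero (by
    rw [hcard]
    have h1 : 0 < (2 ^ (2 * k + 1)) ^ 2 * ((2 ^ (2 * k + 1)) ^ 2 + 1) * (2 ^ (2 * k + 1) - 1) := by
      apply Nat.mul_pos (Nat.mul_pos (by positivity) (by positivity)) (by omega)
    omega)
  have key : ∀ q : ℕ, 8 ≤ q → (2 * q + 1) ^ 2 < q ^ 2 * (q ^ 2 + 1) * (q - 1) := by
    intro q hq
    obtain ⟨c, rfl⟩ : ∃ c, q = c + 8 := ⟨q - 8, by omega⟩
    have : c + 8 - 1 = c + 7 := by omega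
    rw [this]
    nlinarith [sq_nonneg c, mul_nonneg (sq_nonneg c) (Nat.zero_le c)]
  have hb := key _ h8
  rw [← hcard] at hb
  refine smallOff_of_smallAt Nat.prime_two ((Nat.card ↥(Cfsg.Sz F k)).primeFactors.filter (fun r => r ≠ 2))
    ((2 * k + 1) * 2) 1 (((2 ^ (2 * k + 1)) ^ 2 + 1) * (2 ^ (2 * k + 1) - 1)) ?_ ?_ ?_ ?_
  · rw [hcard, pow_mul, one_mul]; ring
  · intro r hr hd
    have h1 : Odd (((2 ^ (2 * k + 1)) ^ 2 + 1) * (2 ^ (2 * k + 1) - 1)) := by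
      have h2 : Even (2 ^ (2 * k + 1)) := (Nat.even_pow.2 ⟨even_two, by omega⟩)
      refine Nat.odd_mul.2 ⟨(h2.pow_of_ne_zero (by norm_num)).add_one, ?_⟩
      exact Nat.Even.sub_odd (by omega) h2 odd_one
    rw [Finset.mem_filter, Nat.mem_primeFactors]
    refine ⟨⟨hr, ?_, Nat.card_pos.ne'⟩, ?_⟩
    · rw [hcard, mul_assoc]
      exact hd.mul_left _
    · rintro rfl
      exact (Nat.not_even_iff_odd.2 h1) (even_iff_two_dvd.2 hd)
  · rw [one_pow]
    have : 0 < (2 * 2 ^ (2 * k + 1) + 1) ^ 2 := by positivity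
    omega
  · intro r hrS hr
    rw [Finset.mem_filter] at hrS
    refine smallAt_of_card hr _ (fun x hx => ?_) hb
    have hx1 : x ≠ 1 := by
      rintro rfl
      rw [orderOf_one] at hx
      exact hr.one_lt.ne hx
    rcases Cfsg.Agent.H98.SzPartition.sylow_or_torus hk hF hx1 with ⟨P, hP⟩ | ⟨-, h⟩
    · exfalso
      obtain ⟨j, hj⟩ := P.isPGroup' ⟨x, hP⟩
      have h3 : x ^ 2 ^ j = 1 := congrArg Subtype.val hj
      have h4 : orderOf x ∣ 2 ^ j := orderOf_dvd_of_pow_eq_one h3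
      rw [hx] at h4
      exact hrS.2 ((Nat.prime_dvd_prime_iff_eq hr Nat.prime_two).1 (hr.dvd_of_dvd_pow h4))
    · rw [Cfsg.Agent.H98.SzPartition.mem_torusOrders_iff] at h
      have h0 : 0 < 2 ^ k := by positivity
      rcases h with h | h | h <;> rw [h] <;> omega

theorem off_Suz {G : Type u} [Group G] [Finite G] [IsSimpleGroup G] (h : Lie.IsoSuzuki G) :
    ∃ p, p.Prime ∧ IsLieTypeChar p G ∧ Cfsg.Agent.H972.NSm.SmallOff p G := by
  refine ⟨2, Nat.prime_two, ?_, ?_⟩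
  · unfold IsLieTypeChar
    tauto
  · obtain ⟨F, _, _, k, hk, hF, ⟨e⟩⟩ := h
    obtain ⟨e'⟩ := Cfsg.Agent.OddCyclic.ClaimC.SzIso.iso hk hF
    exact (off_sz hk hF).congr (e'.trans e.symm)

/-! ### Ree groups `²G₂(q)` -/

theorem off_ree {K : Type*} [Field K] [Fintype K] {m : ℕ} (hm : 1 ≤ m) (hK : Fintype.card K = 3 ^ (2 * m + 1)) :
    SmallOff 3 ↥(Cfsg.Lie.twistedG2 K (3 ^ m)) := by
  classical
  have hcard := Cfsg.Agent.LieRecognition.ReeFinal.card hK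
  have h27 : 27 ≤ 3 ^ (2 * m + 1) := by
    calc 27 = 3 ^ 3 := by norm_num
      _ ≤ 3 ^ (2 * m + 1) := Nat.pow_le_pow_right (by norm_num) (by omega)
  have ht : 3 ^ (m + 1) ≤ 3 ^ (2 * m + 1) := Nat.pow_le_pow_right (by norm_num) (by omega)
  have hfin : Finite ↥(Cfsg.Lie.twistedG2 K (3 ^ m)) := inferInstance
  obtain ⟨A, B, -, -, hA, hB, -, -, hAc, hBc, hcon⟩ := Cfsg.Agent.LieRecognition.ReeSetup.exists_tori
    (Cfsg.Agent.LieRecognition.ReeFinal.data hK) hm hK (Cfsg.Agent.S1116.result hK hm)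
    (fun x hx hx1 => Cfsg.Agent.LieRecognition.ReeTorusTw.isCyclic_centralizer hK hx hx1)
  have key : ∀ q : ℕ, 27 ≤ q → (q ^ 2 - 1) ^ 2 < q ^ 3 * (q - 1) * (q ^ 3 + 1) ∧
      (2 * q + 1) ^ 2 < q ^ 3 * (q - 1) * (q ^ 3 + 1) ∧
      q ^ 3 * (q - 1) * (q ^ 3 + 1) = q ^ 3 * ((q ^ 2 - 1) * (q ^ 2 - q + 1)) := by
    intro q hq
    obtain ⟨c, rfl⟩ : ∃ c, q = c + 27 := ⟨q - 27, by omega⟩
    have h1 : c + 27 - 1 = c + 26 := by omega
    have h2 : (c + 27) ^ 2 - 1 = c ^ 2 + 54 * c + 728 := by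
      have : (c + 27) ^ 2 = c ^ 2 + 54 * c + 729 := by ring
      omega
    have h3 : (c + 27) ^ 2 - (c + 27) + 1 = c ^ 2 + 53 * c + 703 := by
      have : (c + 27) ^ 2 = c ^ 2 + 54 * c + 729 := by ring
      omega
    rw [h1, h2, h3]
    refine ⟨?_, ?_, by ring⟩
    · ring_nf; omega
    · ring_nf; omega
  obtain ⟨k1, k2, k3⟩ := key _ h27
  refine smallOff_of_smallAt Nat.prime_three ((3 ^ (2 * m + 1)) ^ 2 - 3 ^ (2 * m + 1) + 1).primeFactors
    ((2 * m + 1) * 3) ((3 ^ (2 * m + 1)) ^ 2 - 1) ((3 ^ (2 * m + 1)) ^ 2 - 3 ^ (2 * m + 1) + 1) ?_ ?_ ?_ ?_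
  · rw [hcard, k3, pow_mul]
  · intro r hr hd
    exact Nat.mem_primeFactors.2 ⟨hr, hd, by omega⟩
  · rw [hcard]; exact k1
  · intro r hrS hr
    have hrd : r ∣ (3 ^ (2 * m + 1)) ^ 2 - 3 ^ (2 * m + 1) + 1 := Nat.dvd_of_mem_primeFactors hrS
    refine smallAt_of_card hr (2 * 3 ^ (2 * m + 1) + 1) (fun x hx => ?_) (by rw [hcard]; exact k2)
    have hx1 : x ≠ 1 := by
      rintro rfl
      rw [orderOf_one] at hx
      exact hr.one_lt.ne hx
    obtain ⟨g, hg⟩ := hcon x hx1 (by rw [hx]; exact hrd)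
    have hne : g * x * g⁻¹ ≠ 1 := by
      intro h
      apply hx1
      have : x = g⁻¹ * (g * x * g⁻¹) * g := by group
      rw [this, h]; group
    have hle : Nat.card ↥(centralizer ({x} : Set ↥(Cfsg.Lie.twistedG2 K (3 ^ m)))) ≤
        Nat.card ↥(centralizer ({g * x * g⁻¹} : Set ↥(Cfsg.Lie.twistedG2 K (3 ^ m)))) := by
      refine Nat.card_le_card_of_injective
        (fun y => (⟨g * (y : ↥(Cfsg.Lie.twistedG2 K (3 ^ m))) * g⁻¹, ?_⟩ :
          ↥(centralizer ({g * x * g⁻¹} : Set ↥(Cfsg.Lie.twistedG2 K (3 ^ m)))))) ?_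
      · rw [mem_centralizer_singleton_iff]
        have hy := mem_centralizer_singleton_iff.1 y.2
        calc g * (y : ↥(Cfsg.Lie.twistedG2 K (3 ^ m))) * g⁻¹ * (g * x * g⁻¹)
            = g * ((y : ↥(Cfsg.Lie.twistedG2 K (3 ^ m))) * x) * g⁻¹ := by group
          _ = g * (x * (y : ↥(Cfsg.Lie.twistedG2 K (3 ^ m)))) * g⁻¹ := by rw [hy]
          _ = _ := by group
      · intro a b hab
        have h1 := congrArg Subtype.val hab
        exact Subtype.ext ((MulAut.conj g).injective h1)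
    refine hle.trans ?_
    rcases hg with hg | hg
    · rw [hAc _ hg hne, hA]; omega
    · rw [hBc _ hg hne, hB]; omega

theorem off_Ree {G : Type u} [Group G] [Finite G] [IsSimpleGroup G] (h : Lie.IsoRee G) :
    ∃ p, p.Prime ∧ IsLieTypeChar p G ∧ Cfsg.Agent.H972.NSm.SmallOff p G := by
  refine ⟨3, Nat.prime_three, ?_, ?_⟩
  · unfold IsLieTypeChar
    tauto
  · obtain ⟨K, _, _, m, hm, hK, ⟨e⟩⟩ := h
    exact (off_ree hm hK).congr e.symm

/-! ### Ree groups `²F₄(q)` -/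

open Cfsg.Agent.H371.CycEval Cfsg.Agent.H378.ExcAdj in
/-- the primes dividing the value of a cyclotomic polynomial -/
theorem od_of_dvd {m q r : ℕ} (hr : r.Prime) (hm : ¬ r ∣ m) (h : (r : ℤ) ∣ ev m (q : ℤ)) : od q r = m := by
  have : Fact r.Prime := ⟨hr⟩
  have : NeZero ((m : ℕ) : ZMod r) := ⟨by rw [Ne, ZMod.natCast_eq_zero_iff]; exact hm⟩
  have h1 : (Polynomial.cyclotomic m (ZMod r)).IsRoot (q : ZMod r) := by
    rw [Polynomial.IsRoot.def, ← Polynomial.map_cyclotomic_int, Polynomial.eval_map]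
    have h2 : Polynomial.eval₂ (Int.castRingHom (ZMod r)) (((q : ℤ) : ZMod r)) (Polynomial.cyclotomic m ℤ) =
        ((ev m (q : ℤ) : ℤ) : ZMod r) := by
      rw [ev]
      exact Polynomial.eval₂_at_intCast _ _
    rw [Int.cast_natCast] at h2
    rw [h2]
    exact (ZMod.intCast_zmod_eq_zero_iff_dvd _ _).2 h
  exact ((Polynomial.isRoot_cyclotomic_iff.1 h1).eq_orderOf).symm

/-- `|C(x)| ≤ |C(f x)|` for an injective homomorphism -/
theorem card_centralizer_le {G H : Type*} [Group G] [Group H] [Finite H] {f : G →* H} (hf : Function.Injective f)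
    (x : G) : Nat.card ↥(centralizer ({x} : Set G)) ≤ Nat.card ↥(centralizer ({f x} : Set H)) := by
  refine Nat.card_le_card_of_injective (fun y => (⟨f (y : G), ?_⟩ : ↥(centralizer ({f x} : Set H)))) ?_
  · rw [mem_centralizer_singleton_iff]
    have hy := mem_centralizer_singleton_iff.1 y.2
    rw [← map_mul, ← map_mul, hy]
  · intro a b hab
    have h1 := congrArg Subtype.val hab
    exact Subtype.ext (hf h1)

theorem off_twF4 {K : Type*} [Field K] [Fintype K] {m : ℕ} (hm : 1 ≤ m) (hK : Fintype.card K = 2 ^ (2 * m + 1)) :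
    SmallOff 2 ↥(twistedF4 K (2 ^ m)) := by
  classical
  have hcard := Cfsg.Agent.S1068.result hK
  have h8 : 8 ≤ 2 ^ (2 * m + 1) := by
    calc 8 = 2 ^ 3 := by norm_num
      _ ≤ 2 ^ (2 * m + 1) := Nat.pow_le_pow_right (by norm_num) (by omega)
  have hfin : Finite ↥(twistedF4 K (2 ^ m)) := inferInstance
  have key : ∀ q : ℕ, 8 ≤ q →
      q ^ 12 * (q - 1) * (q ^ 3 + 1) * (q ^ 4 - 1) * (q ^ 6 + 1) =
        q ^ 12 * (((q ^ 2 + 1) * (q ^ 4 - 1) * (q ^ 3 + 1) * (q - 1)) * (q ^ 4 - q ^ 2 + 1)) ∧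
      ((q ^ 2 + 1) * (q ^ 4 - 1) * (q ^ 3 + 1) * (q - 1)) ^ 2 <
        q ^ 12 * (((q ^ 2 + 1) * (q ^ 4 - 1) * (q ^ 3 + 1) * (q - 1)) * (q ^ 4 - q ^ 2 + 1)) ∧
      (q ^ 4 - q ^ 2 + 1) ^ 2 <
        q ^ 12 * (((q ^ 2 + 1) * (q ^ 4 - 1) * (q ^ 3 + 1) * (q - 1)) * (q ^ 4 - q ^ 2 + 1)) := by
    intro q hq
    have h24 : q ^ 2 ≤ q ^ 4 := Nat.pow_le_pow_right (by omega) (by norm_num)
    have hq4 : 1 ≤ q ^ 4 := Nat.one_le_pow _ _ (by omega)
    have e6 : q ^ 6 + 1 = (q ^ 2 + 1) * (q ^ 4 - q ^ 2 + 1) := by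
      zify [h24]; ring
    have hA0 : 0 < (q ^ 2 + 1) * (q ^ 4 - 1) * (q ^ 3 + 1) * (q - 1) := by
      have h1 : 1 < q ^ 4 := Nat.one_lt_pow (by norm_num) (by omega)
      have h2 : 0 < q ^ 4 - 1 := by omega
      have h3 : 0 < q - 1 := by omega
      positivity
    have hA : (q ^ 2 + 1) * (q ^ 4 - 1) * (q ^ 3 + 1) * (q - 1) < q ^ 12 := by
      have h1 : q ^ 2 + 1 ≤ 2 * q ^ 2 := by have : 1 ≤ q ^ 2 := Nat.one_le_pow _ _ (by omega); omega
      have h2 : q ^ 4 - 1 ≤ q ^ 4 := Nat.sub_le _ _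
      have h3 : q ^ 3 + 1 ≤ 2 * q ^ 3 := by have : 1 ≤ q ^ 3 := Nat.one_le_pow _ _ (by omega); omega
      have h4 : q - 1 ≤ q := Nat.sub_le _ _
      calc (q ^ 2 + 1) * (q ^ 4 - 1) * (q ^ 3 + 1) * (q - 1) ≤ (2 * q ^ 2) * q ^ 4 * (2 * q ^ 3) * q :=
            Nat.mul_le_mul (Nat.mul_le_mul (Nat.mul_le_mul h1 h2) h3) h4
        _ = 4 * q ^ 10 := by ring
        _ < q ^ 2 * q ^ 10 := by
            apply Nat.mul_lt_mul_of_pos_right
            · nlinarith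
            · positivity
        _ = q ^ 12 := by ring
    have hK0 : 0 < q ^ 4 - q ^ 2 + 1 := Nat.succ_pos _
    have hK1 : q ^ 4 - q ^ 2 + 1 < q ^ 12 := by
      have h1 : q ^ 4 < q ^ 12 := Nat.pow_lt_pow_right (by omega) (by norm_num)
      have h2 : 1 ≤ q ^ 2 := Nat.one_le_pow _ _ (by omega)
      omega
    refine ⟨by rw [e6]; ring, ?_, ?_⟩
    · rw [sq]
      calc _ < q ^ 12 * ((q ^ 2 + 1) * (q ^ 4 - 1) * (q ^ 3 + 1) * (q - 1)) := Nat.mul_lt_mul_of_pos_right hA hA0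
        _ ≤ _ := Nat.mul_le_mul_left _ (Nat.le_mul_of_pos_right _ hK0)
    · rw [sq]
      calc _ < q ^ 12 * (q ^ 4 - q ^ 2 + 1) := Nat.mul_lt_mul_of_pos_right hK1 hK0
        _ ≤ _ := Nat.mul_le_mul_left _ (Nat.le_mul_of_pos_left _ hA0)
  obtain ⟨k1, k2, k3⟩ := key _ h8
  refine smallOff_of_smallAt Nat.prime_two ((2 ^ (2 * m + 1)) ^ 4 - (2 ^ (2 * m + 1)) ^ 2 + 1).primeFactors
    ((2 * m + 1) * 12) (((2 ^ (2 * m + 1)) ^ 2 + 1) * ((2 ^ (2 * m + 1)) ^ 4 - 1) * ((2 ^ (2 * m + 1)) ^ 3 + 1) *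
      (2 ^ (2 * m + 1) - 1)) ((2 ^ (2 * m + 1)) ^ 4 - (2 ^ (2 * m + 1)) ^ 2 + 1) (by rw [hcard, k1, pow_mul]) ?_
    (by rw [hcard, k1]; exact k2) ?_
  · intro r hr hd
    exact Nat.mem_primeFactors.2 ⟨hr, hd, by omega⟩
  · intro r hrS hr
    have hrd : r ∣ (2 ^ (2 * m + 1)) ^ 4 - (2 ^ (2 * m + 1)) ^ 2 + 1 := Nat.dvd_of_mem_primeFactors hrS
    refine smallAt_of_card hr _ (fun x hx => ?_) (by rw [hcard, k1]; exact k3)
    have T := Cfsg.Agent.H371.Core.tor_F4_12 K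
    have hq : Nat.card K = 2 ^ (2 * m + 1) := by rw [Nat.card_eq_fintype_card, hK]
    rw [hq] at T
    generalize 2 ^ (2 * m + 1) = q at *
    have h24 : q ^ 2 ≤ q ^ 4 := Nat.pow_le_pow_right (by omega) (by norm_num)
    have hev : Cfsg.Agent.H371.CycEval.ev 12 (q : ℤ) = ((q ^ 4 - q ^ 2 + 1 : ℕ) : ℤ) := by
      rw [Cfsg.Agent.H371.CycEval.ev12]
      push_cast [h24]
      ring
    have hr12 : ¬ r ∣ 12 := by
      intro h
      have h1 : r = 2 ∨ r = 3 := by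
        have h2 : r ∣ 2 ^ 2 * 3 := h
        rcases hr.dvd_mul.1 h2 with h3 | h3
        · exact Or.inl ((Nat.prime_dvd_prime_iff_eq hr Nat.prime_two).1 (hr.dvd_of_dvd_pow h3))
        · exact Or.inr ((Nat.prime_dvd_prime_iff_eq hr Nat.prime_three).1 h3)
      have h2 : (r : ℤ) ∣ (q : ℤ) ^ 4 - (q : ℤ) ^ 2 + 1 := by
        rw [← Cfsg.Agent.H371.CycEval.ev12, hev]
        exact Int.natCast_dvd_natCast.2 hrd
      rcases h1 with rfl | rfl
      · have h3 : ((q : ℤ) ^ 4 - (q : ℤ) ^ 2 + 1) % 2 = 1 := by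
          rcases Int.emod_two_eq_zero_or_one (q : ℤ) with h | h <;>
            simp [Int.add_emod, Int.sub_emod, pow_succ, Int.mul_emod, h]
        omega
      · have h3 : ((q : ℤ) ^ 4 - (q : ℤ) ^ 2 + 1) % 3 = 1 := by
          have : (q : ℤ) % 3 = 0 ∨ (q : ℤ) % 3 = 1 ∨ (q : ℤ) % 3 = 2 := by omega
          rcases this with h | h | h <;>
            simp [Int.add_emod, Int.sub_emod, pow_succ, Int.mul_emod, h]
        omega
    have hod : Cfsg.Agent.H378.ExcAdj.od q r = 12 :=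
      od_of_dvd hr hr12 (by rw [hev]; exact Int.natCast_dvd_natCast.2 hrd)
    have hle : twistedF4 K (2 ^ m) ≤ chevF4.group K := by
      have memL : chevF4 ∈ [chevG2, chevB2, chevD4, chevF4, chevE6, chevE7, chevE8] := by simp
      unfold twistedF4 ChevalleyDatum.genSubgroup
      rw [Subgroup.closure_le]
      rintro g ⟨l, -, hg⟩
      have h1 : g = Cfsg.Agent.ChevalleyStructure.Elts.wordG memL l :=
        (Cfsg.Agent.ChevalleyStructure.Elts.eq_wordG_iff memL g l).2 hg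
      rw [h1]
      exact Cfsg.Agent.ChevalleyStructure.Elts.wordG_mem_group memL l
    have h1 := card_centralizer_le (Subgroup.inclusion_injective hle) x
    refine h1.trans (le_of_eq ?_)
    rw [T.ct r hr hod (Subgroup.inclusion hle x) (by rw [orderOf_injective _ (Subgroup.inclusion_injective hle), hx]), hev]
    exact Int.natAbs_natCast _

theorem off_2F4 {G : Type u} [Group G] [Finite G] [IsSimpleGroup G] (h : Lie.Iso2F4 G) :
    ∃ p, p.Prime ∧ IsLieTypeChar p G ∧ Cfsg.Agent.H972.NSm.SmallOff p G := by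
  refine ⟨2, Nat.prime_two, ?_, ?_⟩
  · unfold IsLieTypeChar
    tauto
  · obtain ⟨K, _, _, m, hm, hK, ⟨e⟩⟩ := h
    exact (off_twF4 hm hK).congr e.symm

end Cfsg.Agent.H71.SmallOff
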